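import Groth.Agent.H15Site.Trace.Weight
import Groth.Prelude.Def_EtCore

/-!
# The trace is compatible with base change and composition
-/

set_option autoImplicit false
set_option linter.style.haveILetI false
set_option linter.unusedSectionVars false
set_option linter.overlappingInstances false
set_option backward.isDefEq.respectTransparency false
set_option backward.isDefEq.respectTransparency.types false

universe u

open CategoryTheory CategoryTheory.Limits AlgebraicGeometry Opposite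
open scoped Groth.Agent.H18Et

namespace Groth.Agent.H15Site.Trace

open Groth.Agent.H18Et

variable {Ω : Type u} [Field Ω] [IsAlgClosed Ω]

theorem isIso_ev {X Y : Scheme.{u}} (f : X ⟶ Y) (F : EtCoh.Ab Y) {η : Spec (CommRingCat.of Ω) ⟶ Y}
    (ξ : Pts f η) : IsIso (ev f F ξ) := by rw [ev]; infer_instance

theorem ev_bijective {X Y : Scheme.{u}} (f : X ⟶ Y) (F : EtCoh.Ab Y) {η : Spec (CommRingCat.of Ω) ⟶ Y}
    (ξ : Pts f η) : Function.Bijective (ev f F ξ) :=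
  haveI := isIso_ev f F ξ
  ConcreteCategory.bijective_of_isIso _

theorem exists_ev_rep {X Y : Scheme.{u}} (f : X ⟶ Y) (F : EtCoh.Ab Y) {η : Spec (CommRingCat.of Ω) ⟶ Y}
    (ξ : Pts f η) (a : (EtCoh.stalk ξ.1).obj ((EtCoh.pull f).obj F)) :
    ∃ (V : Y.Etale) (z : (Scheme.pointSmallEtale η).fiber.obj V) (s : EtCoh.sect F V),
      a = germ ξ.1 ((EtCoh.pull f).obj F) _ (bcPt ξ V z)
        (((EtCoh.pullPushAdj f).unit.app F).hom.app (op V) s) := by
  obtain ⟨V, z, s, hs⟩ := germ_surjective η F (ev f F ξ a)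
  exact ⟨V, z, s, (ev_bijective f F ξ).1 (hs.symm.trans (ev_germ f F ξ V z s).symm)⟩

theorem ev_naturality {X Y : Scheme.{u}} (f : X ⟶ Y) {F F' : EtCoh.Ab Y} (α : F ⟶ F')
    {η : Spec (CommRingCat.of Ω) ⟶ Y} (ξ : Pts f η) (a : (EtCoh.stalk ξ.1).obj ((EtCoh.pull f).obj F)) :
    ev f F' ξ ((EtCoh.stalk ξ.1).map ((EtCoh.pull f).map α) a) = (EtCoh.stalk η).map α (ev f F ξ a) := by
  obtain ⟨ξ, hξ⟩ := ξ
  subst hξ
  rw [ev, ev, eqToHom_refl, eqToHom_refl, Category.comp_id, Category.comp_id]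
  exact ConcreteCategory.congr_hom ((stalkPullIso f ξ).hom.naturality α) a

section Comp

variable {X Y Z : Scheme.{u}} (h : X ⟶ Y) (g : Y ⟶ Z) {η : Spec (CommRingCat.of Ω) ⟶ Z} (ξ : Pts (h ≫ g) η)

/-- The image in the middle. -/
noncomputable abbrev midPt : Pts g η := ⟨ξ.1 ≫ h, (Category.assoc _ _ _).trans ξ.2⟩

/-- Over the image in the middle. -/
noncomputable abbrev topPt : Pts h (midPt h g ξ).1 := ⟨ξ.1, rfl⟩

/-- The comparison of the base changes. -/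
noncomputable abbrev bcC (V : Z.Etale) : (EtCoh.bc (h ≫ g)).obj V ⟶ (EtCoh.bc h).obj ((EtCoh.bc g).obj V) :=
  (MorphismProperty.Over.pullbackComp (P := EtCoh.etaleMP) (Q := ⊤) h g).hom.app V

theorem bcPt_comp (V : Z.Etale) (z : (Scheme.pointSmallEtale η).fiber.obj V) :
    (Scheme.pointSmallEtale ξ.1).fiber.map (bcC h g V) (bcPt ξ V z) =
      bcPt (topPt h g ξ) ((EtCoh.bc g).obj V) (bcPt (midPt h g ξ) V z) := by
  have h3 : (bcC h g V).left ≫ pullback.fst ((EtCoh.bc g).obj V).hom h ≫ pullback.fst V.hom g =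
      pullback.fst V.hom (h ≫ g) :=
    MorphismProperty.Over.pullbackComp_left_fst_fst (P := EtCoh.etaleMP) (Q := ⊤) h g V
  have hs := Over.w ((Scheme.pointSmallEtale ξ.1).fiber.map (bcC h g V) (bcPt ξ V z))
  refine Over.OverMorphism.ext (pullback.hom_ext (pullback.hom_ext ?_ ?_) ?_)
  · refine (Category.assoc _ _ _).trans ?_
    refine Eq.trans ?_ ((congrArg (· ≫ pullback.fst V.hom g)
      (bcPt_fst h (topPt h g ξ) ((EtCoh.bc g).obj V) (bcPt (midPt h g ξ) V z))).trans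
      (bcPt_fst g (midPt h g ξ) V z)).symm
    show ((bcPt ξ V z).left ≫ (bcC h g V).left) ≫ _ = _
    rw [Category.assoc, h3]
    exact bcPt_fst (h ≫ g) ξ V z
  · refine (Category.assoc _ _ _).trans ?_
    refine Eq.trans ?_ ((congrArg (· ≫ pullback.snd V.hom g)
      (bcPt_fst h (topPt h g ξ) ((EtCoh.bc g).obj V) (bcPt (midPt h g ξ) V z))).trans
      (bcPt_snd g (midPt h g ξ) V z)).symm
    refine (congrArg (_ ≫ ·) pullback.condition).trans ((Category.assoc _ _ _).symm.trans ?_)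
    exact congrArg (· ≫ h) hs
  · exact hs.trans (bcPt_snd h (topPt h g ξ) ((EtCoh.bc g).obj V) (bcPt (midPt h g ξ) V z)).symm

/-- The identification of the inverse image along a composite, on germs of pulled back sections. -/
theorem ev_pullComp (F : EtCoh.Ab Z) (a : (EtCoh.stalk ξ.1).obj ((EtCoh.pull (h ≫ g)).obj F)) :
    ev g F (midPt h g ξ) (ev h ((EtCoh.pull g).obj F) (topPt h g ξ)
      ((EtCoh.stalk ξ.1).map ((EtCore.pullComp h g).hom.app F) a)) = ev (h ≫ g) F ξ a := by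
  obtain ⟨V, z, s, rfl⟩ := exists_ev_rep (h ≫ g) F ξ a
  rw [ev_germ]
  let G' := (EtCoh.pull g).obj F
  let G'' := (EtCoh.pull h).obj G'
  have e : (((EtCoh.pullPushAdj g).comp (EtCoh.pullPushAdj h)).ofNatIsoRight (EtCoh.pushComp g h)).unit.app F =
      (EtCoh.pullPushAdj g).unit.app F ≫ (EtCoh.push g).map ((EtCoh.pullPushAdj h).unit.app G') ≫
        (EtCoh.pushComp g h).hom.app G'' := by
    simp [Adjunction.ofNatIsoRight, Adjunction.comp, G', G'']
  have hu := ConcreteCategory.congr_hom (congrArg (fun k => k.hom.app (op V))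
    ((Adjunction.unit_leftAdjointUniq_hom_app (EtCoh.pullPushAdj (h ≫ g))
      (((EtCoh.pullPushAdj g).comp (EtCoh.pullPushAdj h)).ofNatIsoRight (EtCoh.pushComp g h)) F).trans e)) s
  refine (congrArg (fun b => ev g F (midPt h g ξ) (ev h G' (topPt h g ξ) b))
    (germ_naturality ξ.1 ((EtCore.pullComp h g).hom.app F) _ (bcPt ξ V z) _)).trans ?_
  refine (congrArg (fun b => ev g F (midPt h g ξ) (ev h G' (topPt h g ξ) (germ ξ.1 G'' _ (bcPt ξ V z) b))) hu).trans ?_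
  refine (congrArg (fun b => ev g F (midPt h g ξ) (ev h G' (topPt h g ξ) b))
    ((Scheme.pointSmallEtale ξ.1).toPresheafFiber_w_apply (bcC h g V) (bcPt ξ V z) G''.obj _)).trans ?_
  rw [bcPt_comp]
  refine (congrArg (ev g F (midPt h g ξ)) (ev_germ h G' (topPt h g ξ) _ _ _)).trans ?_
  exact ev_germ g F (midPt h g ξ) V z s

end Comp

theorem ev_pullCongr {X Y : Scheme.{u}} {f f' : X ⟶ Y} (e : f = f') (F : EtCoh.Ab Y)
    {η : Spec (CommRingCat.of Ω) ⟶ Y} (ξ : Pts f η)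
    (a : (EtCoh.stalk ξ.1).obj ((EtCoh.pull f).obj F)) :
    ev f' F ⟨ξ.1, e ▸ ξ.2⟩ ((EtCoh.stalk ξ.1).map ((EtCore.pullCongr e).hom.app F) a) = ev f F ξ a := by
  subst e
  simp only [EtCore.pullCongr, eqToIso_refl, Iso.refl_hom, NatTrans.id_app, CategoryTheory.Functor.map_id]
  rfl

section BaseChange

variable {X S X' S' : Scheme.{u}} {f : X ⟶ S} {g : S' ⟶ S} {f' : X' ⟶ S'} {g' : X' ⟶ X}
  (hc : IsPullback g' f' f g) (F : EtCoh.Ab S)

theorem ev_square' (ξ : Spec (CommRingCat.of Ω) ⟶ X') (hz : ξ ≫ g' ≫ f = (ξ ≫ f') ≫ g)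
    (a : (EtCoh.stalk ξ).obj ((EtCoh.pull (g' ≫ f)).obj F)) :
    ev g F (⟨ξ ≫ f', rfl⟩ : Pts g ((ξ ≫ f') ≫ g)) (ev f' ((EtCoh.pull g).obj F) (⟨ξ, rfl⟩ : Pts f' (ξ ≫ f'))
      ((EtCoh.stalk ξ).map (Y := (EtCoh.pull f').obj ((EtCoh.pull g).obj F)) ((EtCore.pullComp f' g).hom.app F)
        ((EtCoh.stalk ξ).map ((EtCore.pullCongr hc.w).hom.app F) a))) =
    ev f F (midPt g' f (⟨ξ, hz⟩ : Pts (g' ≫ f) ((ξ ≫ f') ≫ g))) (ev g' ((EtCoh.pull f).obj F) (topPt g' f (⟨ξ, hz⟩ : Pts (g' ≫ f) ((ξ ≫ f') ≫ g)))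
      ((EtCoh.stalk ξ).map (Y := (EtCoh.pull g').obj ((EtCoh.pull f).obj F)) ((EtCore.pullComp g' f).hom.app F) a)) :=
  ((ev_pullComp f' g (⟨ξ, (Category.assoc _ _ _).symm⟩ : Pts (f' ≫ g) ((ξ ≫ f') ≫ g)) F _).trans
    (ev_pullCongr hc.w F (⟨ξ, hz⟩ : Pts (g' ≫ f) ((ξ ≫ f') ≫ g)) a)).trans
    (ev_pullComp g' f (⟨ξ, hz⟩ : Pts (g' ≫ f) ((ξ ≫ f') ≫ g)) F a).symm

theorem ev_kap_aux (ξ : Spec (CommRingCat.of Ω) ⟶ X')
    (b : (EtCoh.stalk (mapPts hc.w (⟨ξ, rfl⟩ : Pts f' (ξ ≫ f'))).1).obj ((EtCoh.pull f).obj F)) :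
    ev f' ((EtCoh.pull g).obj F) (⟨ξ, rfl⟩ : Pts f' (ξ ≫ f')) ((EtCoh.stalk ξ).map (X := (EtCoh.pull g').obj ((EtCoh.pull f).obj F)) (Y := (EtCoh.pull f').obj ((EtCoh.pull g).obj F)) ((EtCore.pullComp g' f).inv.app F ≫ (EtCore.pullCongr hc.w).hom.app F ≫ (EtCore.pullComp f' g).hom.app F)
        ((stalkPullIso g' ξ).inv.app _ b)) =
      (stalkPullIso g (ξ ≫ f')).inv.app F (ev f F (mapPts hc.w (⟨ξ, rfl⟩ : Pts f' (ξ ≫ f'))) b) := by
  have hev : ev g F (⟨ξ ≫ f', rfl⟩ : Pts g ((ξ ≫ f') ≫ g))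
      ((stalkPullIso g (ξ ≫ f')).inv.app F (ev f F (mapPts hc.w ⟨ξ, rfl⟩) b)) =
        ev f F (mapPts hc.w ⟨ξ, rfl⟩) b := by
    rw [ev, eqToHom_refl, Category.comp_id]
    exact ((stalkPullIso g (ξ ≫ f')).app F).inv_hom_id_apply _
  have hc1 : ev g' ((EtCoh.pull f).obj F) (topPt g' f (⟨ξ, (congrArg (ξ ≫ ·) hc.w).trans (Category.assoc _ _ _).symm⟩ : Pts (g' ≫ f) ((ξ ≫ f') ≫ g))) ((stalkPullIso g' ξ).inv.app _ b) = b := by
    rw [ev, eqToHom_refl, Category.comp_id]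
    exact ((stalkPullIso g' ξ).app _).inv_hom_id_apply _
  apply (ev_bijective g F (⟨ξ ≫ f', rfl⟩ : Pts g ((ξ ≫ f') ≫ g))).1
  rw [hev]
  have key := ev_square' hc F ξ ((congrArg (ξ ≫ ·) hc.w).trans (Category.assoc _ _ _).symm)
    ((EtCoh.stalk ξ).map (X := (EtCoh.pull g').obj ((EtCoh.pull f).obj F)) ((EtCore.pullComp g' f).inv.app F)
      ((stalkPullIso g' ξ).inv.app _ b))
  refine Eq.trans ?_ (key.trans ?_)
  · rw [Functor.map_comp, Functor.map_comp, ConcreteCategory.comp_apply, ConcreteCategory.comp_apply]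
  · refine congrArg (ev f F (mapPts hc.w ⟨ξ, rfl⟩)) ?_
    refine (congrArg (ev g' ((EtCoh.pull f).obj F) _) ?_).trans hc1
    exact ((EtCoh.stalk ξ).mapIso ((EtCore.pullComp g' f).app F)).inv_hom_id_apply _

theorem ev_kap {η' : Spec (CommRingCat.of Ω) ⟶ S'} (ξ' : Pts f' η')
    (b : (EtCoh.stalk (mapPts hc.w ξ').1).obj ((EtCoh.pull f).obj F)) :
    ev f' ((EtCoh.pull g).obj F) ξ' ((EtCoh.stalk ξ'.1).map (X := (EtCoh.pull g').obj ((EtCoh.pull f).obj F)) (Y := (EtCoh.pull f').obj ((EtCoh.pull g).obj F)) ((EtCore.pullComp g' f).inv.app F ≫ (EtCore.pullCongr hc.w).hom.app F ≫ (EtCore.pullComp f' g).hom.app F)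
        ((stalkPullIso g' ξ'.1).inv.app _ b)) =
      (stalkPullIso g η').inv.app F (ev f F (mapPts hc.w ξ') b) := by
  obtain ⟨ξ, hξ⟩ := ξ'
  subst hξ
  exact ev_kap_aux hc F ξ b

variable [IsFinite f] [Flat f] [LocallyOfFinitePresentation f]
  [IsFinite f'] [Flat f'] [LocallyOfFinitePresentation f']

theorem trace_baseChange :
    EtCoh.baseChange0 f g f' g' hc.w ((EtCoh.pull f).obj F) ≫
        (EtCoh.push f').map ((EtCore.pullComp g' f).inv.app F ≫ (EtCore.pullCongr hc.w).hom.app F ≫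
          (EtCore.pullComp f' g).hom.app F) ≫ (trace f').app ((EtCoh.pull g).obj F) =
      (EtCoh.pull g).map ((trace f).app F) := by
  refine hom_ext_stalk fun Ω _ _ η' x => ?_
  haveI : Finite (Pts f' η') := finite_pts f' η'
  haveI : Finite (Pts f (η' ≫ g)) := finite_pts f (η' ≫ g)
  haveI := Fintype.ofFinite (Pts f' η')
  haveI := Fintype.ofFinite (Pts f (η' ≫ g))
  obtain ⟨a, rfl⟩ : ∃ a, (stalkPullIso g η').inv.app (PP f F) a = x :=
    ⟨_, ((stalkPullIso g η').app (PP f F)).hom_inv_id_apply x⟩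
  refine Eq.trans ?_ (ConcreteCategory.congr_hom ((stalkPullIso g η').inv.naturality ((trace f).app F)) a)
  refine Eq.trans ?_ (congrArg ((stalkPullIso g η').inv.app F) (stalk_homOfStalk (locRep f F) Ω (η' ≫ g) a).symm)
  rw [Functor.map_comp, Functor.map_comp, ConcreteCategory.comp_apply, ConcreteCategory.comp_apply]
  refine (stalk_homOfStalk (locRep f' _) Ω η' _).trans ?_
  rw [τ, τ, AddMonoidHom.finsetSum_apply, AddMonoidHom.finsetSum_apply, map_sum]
  refine Finset.sum_bij (fun ξ' _ => mapPts hc.w ξ') (fun _ _ => @Finset.mem_univ _ (Fintype.ofFinite _) _)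
    (fun _ _ _ _ e => (mapPts_bijective hc).1 e)
    (fun ξ _ => ((mapPts_bijective hc).2 ξ).elim fun ξ' e => ⟨ξ', @Finset.mem_univ _ (Fintype.ofFinite _) _, e⟩)
    fun ξ' _ => ?_
  rw [AddMonoidHom.smul_apply, AddMonoidHom.smul_apply, map_zsmul, wt_baseChange f hc ξ']
  refine congrArg _ ?_
  refine (congrArg (ev f' _ ξ') ?_).trans (ev_kap hc F ξ' _)
  refine (ConcreteCategory.congr_hom ((pushEval ξ').naturality (X := (EtCoh.pull g').obj ((EtCoh.pull f).obj F)) (Y := (EtCoh.pull f').obj ((EtCoh.pull g).obj F)) ((EtCore.pullComp g' f).inv.app F ≫ (EtCore.pullCongr hc.w).hom.app F ≫ (EtCore.pullComp f' g).hom.app F)) _).trans ?_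
  exact congrArg ((EtCoh.stalk ξ'.1).map (X := (EtCoh.pull g').obj ((EtCoh.pull f).obj F)) (Y := (EtCoh.pull f').obj ((EtCoh.pull g).obj F)) ((EtCore.pullComp g' f).inv.app F ≫ (EtCore.pullCongr hc.w).hom.app F ≫ (EtCore.pullComp f' g).hom.app F)) (pushEval_baseChange0 hc.w ((EtCoh.pull f).obj F) ξ' a)

end BaseChange

section Composite

variable {X Y S : Scheme.{u}} (h : X ⟶ Y) (g : Y ⟶ S) {η : Spec (CommRingCat.of Ω) ⟶ S}

/-- Lifts along a composite. -/
noncomputable def compPts : (Σ y : Pts g η, Pts h y.1) ≃ Pts (h ≫ g) η where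
  toFun p := ⟨p.2.1, (Category.assoc _ _ _).symm.trans ((congrArg (· ≫ g) p.2.2).trans p.1.2)⟩
  invFun ξ := ⟨midPt h g ξ, topPt h g ξ⟩
  left_inv := by
    rintro ⟨⟨y, hy⟩, ⟨x, hx⟩⟩
    obtain rfl : x ≫ h = y := hx
    rfl
  right_inv _ := rfl

variable [IsFinite h] [Flat h] [LocallyOfFinitePresentation h] [IsFinite g] [Flat g]
  [LocallyOfFinitePresentation g] [IsFinite (h ≫ g)] [Flat (h ≫ g)] [LocallyOfFinitePresentation (h ≫ g)]

theorem trace_comp (F : EtCoh.Ab S) :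
    (trace (h ≫ g)).app F =
      (EtCoh.push (h ≫ g)).map ((EtCore.pullComp h g).hom.app F) ≫
        (EtCoh.pushComp g h).inv.app ((EtCoh.pull h).obj ((EtCoh.pull g).obj F)) ≫
        (EtCoh.push g).map ((trace h).app ((EtCoh.pull g).obj F)) ≫ (trace g).app F := by
  refine hom_ext_stalk fun Ω _ _ η a => ?_
  haveI : Finite (Pts g η) := finite_pts g η
  haveI := Fintype.ofFinite (Pts g η)
  haveI : ∀ y : Pts g η, Finite (Pts h y.1) := fun y => finite_pts h y.1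
  haveI := fun y : Pts g η => Fintype.ofFinite (Pts h y.1)
  haveI : Finite (Pts (h ≫ g) η) := finite_pts (h ≫ g) η
  haveI := Fintype.ofFinite (Pts (h ≫ g) η)
  obtain ⟨V, z, t, rfl⟩ := germ_surjective η (PP (h ≫ g) F) a
  refine ((stalk_homOfStalk (locRep (h ≫ g) F) Ω η _).trans (τ_germ (h ≫ g) F Ω η V z t)).trans ?_
  let G' := (EtCoh.pull g).obj F
  let G'' := (EtCoh.pull h).obj G'
  let cinv : (EtCoh.bc h).obj ((EtCoh.bc g).obj V) ⟶ (EtCoh.bc (h ≫ g)).obj V :=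
    (MorphismProperty.Over.pullbackComp (P := EtCoh.etaleMP) (Q := ⊤) h g).inv.app V
  let t₁ : EtCoh.sect G'' ((EtCoh.bc (h ≫ g)).obj V) := ((EtCore.pullComp h g).hom.app F).hom.app _ t
  let t₂ : EtCoh.sect (PP h G') ((EtCoh.bc g).obj V) := G''.obj.map cinv.op t₁
  let r : EtCoh.sect G' ((EtCoh.bc g).obj V) := ((trace h).app G').hom.app _ t₂
  have hm : (EtCoh.stalk η).map ((EtCoh.push (h ≫ g)).map ((EtCore.pullComp h g).hom.app F) ≫
        (EtCoh.pushComp g h).inv.app G'' ≫ (EtCoh.push g).map ((trace h).app G'))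
      (germ η (PP (h ≫ g) F) V z t) = germ η (PP g F) V z r :=
    germ_naturality η _ V z t
  refine Eq.trans ?_ (((congrArg ((EtCoh.stalk η).map ((trace g).app F)) hm).symm.trans
    ((ConcreteCategory.congr_hom ((EtCoh.stalk η).map_comp _ ((trace g).app F)) _).symm)).trans
      (congrArg (fun k => (EtCoh.stalk η).map k (germ η (PP (h ≫ g) F) V z t))
        ((Category.assoc _ _ _).trans (congrArg (_ ≫ ·) (Category.assoc _ _ _)))))
  refine Eq.trans ?_ (((stalk_homOfStalk (locRep g F) Ω η _).trans (τ_germ g F Ω η V z r)).symm)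
  rw [← (compPts h g).sum_comp, Fintype.sum_sigma]
  refine Finset.sum_congr rfl fun y _ => ?_
  have hr : germ y.1 G' _ (bcPt y V z) r = ∑ x : Pts h y.1, wt h (H7Weight.pt x.1) •
      ev h G' x (germ x.1 G'' _ (bcPt x ((EtCoh.bc g).obj V) (bcPt y V z)) t₂) :=
    (rep_homOfStalk (locRep h G') t₂ Ω y.1 (bcPt y V z)).trans (τ_germ h G' Ω y.1 _ _ t₂)
  rw [hr, map_sum, Finset.smul_sum]
  refine Finset.sum_congr rfl fun x _ => ?_
  clear hr
  obtain ⟨y, hy⟩ := y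
  obtain ⟨x, hx⟩ := x
  obtain rfl : x ≫ h = y := hx
  let ξ : Pts (h ≫ g) η := ⟨x, (Category.assoc _ _ _).symm.trans hy⟩
  show wt (h ≫ g) (H7Weight.pt x) • ev (h ≫ g) F ξ (germ x ((EtCoh.pull (h ≫ g)).obj F) _ (bcPt ξ V z) t) = _
  rw [wt_mul h g, map_zsmul, smul_smul, mul_comm (wt g _) (wt h _), H7Weight.pt_comp]
  refine congrArg _ ?_
  rw [← ev_pullComp h g ξ F]
  refine congrArg (fun b => ev g F (midPt h g ξ) (ev h G' (topPt h g ξ) b)) ?_
  refine (germ_naturality x ((EtCore.pullComp h g).hom.app F) _ (bcPt ξ V z) t).trans ?_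
  refine Eq.trans ?_ ((Scheme.pointSmallEtale x).toPresheafFiber_w_apply cinv _ G''.obj t₁).symm
  refine congrArg (fun q => germ x G'' _ q t₁) ?_
  refine ((congrArg ((Scheme.pointSmallEtale x).fiber.map cinv) (bcPt_comp h g ξ V z)).symm.trans ?_).symm
  refine (fiber_map_map (Scheme.pointSmallEtale x).fiber _ _ _).trans ?_
  rw [show bcC h g V ≫ cinv = 𝟙 _ from Iso.hom_inv_id_app _ _]
  exact ConcreteCategory.congr_hom ((Scheme.pointSmallEtale x).fiber.map_id _) _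

end Composite

end Groth.Agent.H15Site.Trace
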