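import Groth.Agent.H18Et.FibreSections
import Groth.Agent.H18Et.ConstSheaf
import Mathlib.Data.Finite.Card

/-!
# Etale locally, the points of a geometric fibre lie in disjoint clopen pieces
-/

set_option autoImplicit false
set_option linter.style.haveILetI false
set_option linter.unusedSectionVars false
set_option backward.isDefEq.respectTransparency false
set_option backward.isDefEq.respectTransparency.types false

universe u

open CategoryTheory CategoryTheory.Limits AlgebraicGeometry Opposite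
open scoped Groth.Agent.H18Et

namespace Groth.Agent.H15Site.Trace

open Groth.Agent.H18Et Groth.Agent.H18Et.ConstSheaf

variable {X Y : Scheme.{u}} (f : X ⟶ Y) [IsIntegralHom f] {Ω : Type u} [Field Ω] [IsAlgClosed Ω]
  (η : Spec (CommRingCat.of Ω) ⟶ Y)

theorem top_fiber_unique {Z : Scheme.{u}} {ξ : Spec (CommRingCat.of Ω) ⟶ Z}
    (a b : (Scheme.pointSmallEtale ξ).fiber.obj (EtCoh.top Z)) : a = b := by
  refine Over.OverMorphism.ext ?_
  exact ((Category.comp_id _).symm.trans ((Over.w a).trans (Over.w b).symm)).trans (Category.comp_id _)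

set_option maxHeartbeats 1000000 in
theorem exists_decomp [Finite (Pts f η)] (V : Y.Etale) (z : (Scheme.pointSmallEtale η).fiber.obj V) :
    ∃ (V' : Y.Etale) (g : V' ⟶ V) (z' : (Scheme.pointSmallEtale η).fiber.obj V')
      (D : Pts f η → ((EtCoh.bc f).obj V').left.Opens),
      (Scheme.pointSmallEtale η).fiber.map g z' = z ∧ (∀ ξ, ptOf (bcPt ξ V' z') ∈ D ξ) ∧
        (∀ ξ, IsClosed (D ξ : Set ((EtCoh.bc f).obj V').left)) ∧
        ∀ ξ ξ' p, p ∈ D ξ → p ∈ D ξ' → ξ = ξ' := by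
  classical
  let M : AddCommGrpCat.{u + 1} := AddCommGrpCat.of (ULift.{u + 1} ℤ)
  let F₀ := (constantSheaf X.smallEtaleTopology AddCommGrpCat.{u + 1}).obj M
  have hc : IsConstant F₀ (unitTop (X := X) M) := isConstant_unitTop M
  obtain ⟨n, ⟨en⟩⟩ := Finite.exists_equiv_fin (Pts f η)
  let num : Pts f η → ULift.{u + 1} ℤ := fun ξ => ⟨((en ξ : ℕ) : ℤ)⟩
  have hnum : Function.Injective num := fun a b e =>
    en.injective (Fin.ext (Int.ofNat.inj (congrArg ULift.down e)))
  let topPt : ∀ ξ : Pts f η, (Scheme.pointSmallEtale ξ.1).fiber.obj (EtCoh.top X) :=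
    fun ξ => Over.homMk ξ.1 (Category.comp_id _)
  let t : ∀ ξ : Pts f η, (EtCoh.stalk ξ.1).obj F₀ :=
    fun ξ => germ ξ.1 F₀ (EtCoh.top X) (topPt ξ) (unitTop M (num ξ))
  have ht : ∀ (ξ : Pts f η) (U : X.Etale) (y : (Scheme.pointSmallEtale ξ.1).fiber.obj U),
      germ ξ.1 F₀ U y (rest F₀ U (unitTop M (num ξ))) = t ξ := fun ξ U y =>
    (germ_rest ξ.1 F₀ U y _).trans
      (congrArg (fun w => germ ξ.1 F₀ (EtCoh.top X) w (unitTop M (num ξ))) (top_fiber_unique _ _))
  obtain ⟨V₀, z₀, s, hs⟩ := exists_section_of_germs (f := f) (η := η) F₀ t fun ξ => by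
    obtain ⟨W, w, O, hO, hiso⟩ := exists_isolating (f := f) ξ
    refine ⟨W, w, O, rest F₀ _ (unitTop M (num ξ)), hO, fun ξ' y hy => ?_⟩
    obtain rfl := hiso ξ' (openPt_mem O y hy)
    exact ht ξ' _ y
  let V₁ : Bool → Y.Etale := fun b => bif b then V else V₀
  let v₁ : ∀ b, (Scheme.pointSmallEtale η).fiber.obj (V₁ b) := fun b => match b with
    | true => z
    | false => z₀
  obtain ⟨V', z', hg⟩ := exists_common_nbhd (Finset.univ : Finset Bool) V₁ v₁
  obtain ⟨g, hgz⟩ := hg true (Finset.mem_univ _)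
  obtain ⟨g₀, hgz₀⟩ := hg false (Finset.mem_univ _)
  let s' := F₀.obj.map ((EtCoh.bc f).map g₀).op s
  let D : Pts f η → ((EtCoh.bc f).obj V').left.Opens :=
    fun ξ => ⟨locus hc s' (num ξ), isOpen_locus hc s' (num ξ)⟩
  refine ⟨V', g, z', D, hgz, fun ξ => ?_, fun ξ => (isClopen_locus hc s' (num ξ)).1, fun ξ ξ' p h h' => ?_⟩
  · have h1 : germ ξ.1 F₀ _ (bcPt ξ V' z') s' =
        germ ξ.1 F₀ _ (bcPt ξ V' z') (rest F₀ _ (unitTop M (num ξ))) := by
      refine ((Scheme.pointSmallEtale ξ.1).toPresheafFiber_w_apply _ _ F₀.obj s).trans ?_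
      refine (congrArg (fun q => germ ξ.1 F₀ _ q s) (bcPt_map ξ g₀ hgz₀)).trans ?_
      exact (hs ξ).trans (ht ξ _ _).symm
    obtain ⟨W, a, y, hy, e⟩ := (germ_eq_iff _ F₀ _ _ _ _).1 h1
    exact ⟨W, a, ⟨ptOf y, (ptOf_map a y).trans (congrArg ptOf hy)⟩, e.trans (map_rest F₀ a _)⟩
  · exact hnum (locus_unique hc s' h h')

end Groth.Agent.H15Site.Trace
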