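import Groth.Agent.H7Weight.FlatLQF
import Mathlib.AlgebraicGeometry.Morphisms.FlatRank

/-!
# Multiplicities of the geometric points in the fibres of finite flat morphisms
-/

set_option autoImplicit false
set_option linter.style.haveILetI false
set_option linter.unusedSectionVars false
set_option backward.isDefEq.respectTransparency false

universe u

open AlgebraicGeometry CategoryTheory Limits
open Groth.Agent.H7Weight Groth.Agent.H7Weight.FlatLQF

namespace Groth.Agent.H15Site.Trace

variable {U V : Scheme.{u}}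

/-- The multiplicity of a point, as an integer. -/
noncomputable def wt (π : U ⟶ V) (u : U) : ℤ := (LW π u : ℤ)

/-- The fibre integral of the multiplicities is the rank. -/
theorem fibreIntegral_wt (π : U ⟶ V) [IsFinite π] [Flat π] [LocallyOfFinitePresentation π] (v : V) :
    MoreMor.fibreIntegral π (wt π) v = (π.finrank v : ℤ) := by
  classical
  obtain ⟨W, hW, hvW, -⟩ := exists_isAffineOpen_mem_and_subset (x := v) (U := (⊤ : V.Opens)) trivial
  have hU : IsAffineOpen (π ⁻¹ᵁ W) := hW.preimage π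
  let φ := π.appLE W (π ⁻¹ᵁ W) le_rfl
  have hsq : Spec.map φ ≫ hW.fromSpec = hU.fromSpec ≫ π := hW.SpecMap_appLE_fromSpec π hU le_rfl
  have hfin : φ.hom.Finite := by
    have h := IsFinite.finite_app π W hW
    rwa [show φ = π.app W from (Scheme.Hom.app_eq_appLE (f := π)).symm]
  have hflat : φ.hom.Flat := HasRingHomProperty.appLE (P := @Flat) π inferInstance ⟨W, hW⟩ ⟨_, hU⟩ le_rfl
  have hfp : φ.hom.FinitePresentation :=
    HasRingHomProperty.appLE (P := @LocallyOfFinitePresentation) π inferInstance ⟨W, hW⟩ ⟨_, hU⟩ le_rfl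
  algebraize [φ.hom]
  haveI : Module.FinitePresentation Γ(V, W) Γ(U, π ⁻¹ᵁ W) :=
    Module.FinitePresentation.of_finite_of_finitePresentation _ _
  let ρ : PrimeSpectrum Γ(V, W) → ℕ := Module.rankAtStalk Γ(U, π ⁻¹ᵁ W)
  have hπ : ∀ q, π (hU.fromSpec q) = hW.fromSpec (PrimeSpectrum.comap φ.hom q) := fun q => by
    rw [← Scheme.Hom.comp_apply, ← hsq]
    rfl
  have key : ∀ p, MoreMor.fibreIntegral π (wt π) (hW.fromSpec p) = (ρ p : ℤ) := by
    intro p
    let P := p.asIdeal.primesOver Γ(U, π ⁻¹ᵁ W)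
    let pt : P → PrimeSpectrum Γ(U, π ⁻¹ᵁ W) := fun q => ⟨q.1, q.2.1⟩
    have hpt : ∀ q : P, PrimeSpectrum.comap φ.hom (pt q) = p := fun q =>
      PrimeSpectrum.ext q.2.2.over.symm
    let G : P → {u : U // π u = hW.fromSpec p} := fun q =>
      ⟨hU.fromSpec (pt q), (hπ _).trans (congrArg hW.fromSpec (hpt q))⟩
    have hG : Function.Bijective G := by
      refine ⟨fun q q' h => ?_, fun u => ?_⟩
      · have h' := congrArg (fun z : {u : U // π u = hW.fromSpec p} => z.1) h
        have := hU.fromSpec.isOpenEmbedding.injective h'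
        exact Subtype.ext (congrArg PrimeSpectrum.asIdeal this)
      · obtain ⟨q, hq⟩ : u.1 ∈ Set.range hU.fromSpec := by
          rw [hU.range_fromSpec]
          show π u.1 ∈ W
          rw [u.2]
          exact hW.range_fromSpec.le ⟨p, rfl⟩
        have hqp : PrimeSpectrum.comap φ.hom q = p :=
          hW.fromSpec.isOpenEmbedding.injective (by rw [← hπ, hq, u.2])
        exact ⟨⟨q.asIdeal, q.isPrime, ⟨congrArg PrimeSpectrum.asIdeal hqp.symm⟩⟩, Subtype.ext hq⟩
    haveI : Finite P := (Algebra.QuasiFinite.finite_primesOver (R := Γ(V, W)) (S := Γ(U, π ⁻¹ᵁ W)) p.asIdeal).to_subtype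
    letI := Fintype.ofFinite P
    unfold MoreMor.fibreIntegral
    rw [← finsum_eq_of_bijective G hG (f := fun q : P =>
      ((q.1.ramificationIdx Γ(V, W) * q.1.inertiaDeg Γ(V, W) : ℕ) : ℤ)) ?_, finsum_eq_sum_of_fintype,
      ← Nat.cast_sum, Ideal.sum_ramification_inertia_eq_finrank_fiber]
    · congr 1
      have h := Module.rankAtStalk_baseChange (R := Γ(V, W)) (S := p.asIdeal.ResidueField)
        (M := Γ(U, π ⁻¹ᵁ W)) ⟨⊥, Ideal.isPrime_bot⟩
      rw [Module.rankAtStalk_eq_finrank_of_free] at h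
      refine h.trans (congrArg ρ (PrimeSpectrum.ext ?_))
      exact (RingHom.ker_eq_comap_bot _).symm.trans (Ideal.ker_algebraMap_residueField _)
    · intro q
      refine ((LW_mul_sepDegree π _).trans ?_).symm
      have h1 : dg π (hU.fromSpec (pt q)) = dg (Spec.map φ) (pt q) := by
        rw [← dg_comp_left hU.fromSpec π, ← dg_comp_right (Spec.map φ) hW.fromSpec]
        simp only [hsq]
      show (dg π (hU.fromSpec (pt q)) : ℤ) = _
      rw [h1, dg, (dg_Spec φ (pt q)).1, (dg_Spec φ (pt q)).2]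
  obtain ⟨p₀, rfl⟩ : v ∈ Set.range hW.fromSpec := by rw [hW.range_fromSpec]; exact hvW
  rw [key]
  have hpb : IsPullback hU.fromSpec (Spec.map φ) π hW.fromSpec :=
    (IsOpenImmersion.isPullback (Spec.map φ) hU.fromSpec hW.fromSpec π hsq.symm
      (by rw [hW.opensRange_fromSpec, hU.opensRange_fromSpec])).flip
  rw [← Scheme.Hom.finrank_of_isPullback _ _ _ _ hpb, Scheme.Hom.finrank_SpecMap_eq_finrank hfin hflat]
  rfl

variable {Ω : Type u} [Field Ω] [IsAlgClosed Ω]

/-- The multiplicities of the lifts of a geometric point add up to the rank. -/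
theorem sum_wt (π : U ⟶ V) [IsFinite π] [Flat π] [LocallyOfFinitePresentation π]
    (η : Spec (CommRingCat.of Ω) ⟶ V) [Fintype (Pts π η)] :
    ∑ s : Pts π η, wt π (pt s.1) = (π.finrank (pt η) : ℤ) := by
  rw [← fibreIntegral_wt, fibreIntegral_eq_geomSum π _ η (π.finite_preimage_singleton _), geomSum,
    finsum_eq_sum_of_fintype]

/-- Invariance of the multiplicities under etale maps on both sides. -/
theorem wt_comp {X Y : Scheme.{u}} (π : U ⟶ V) (a : U ⟶ X) (f : X ⟶ Y) (g : V ⟶ Y) [Etale a] [Etale g]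
    [LocallyQuasiFinite f] [LocallyOfFiniteType f] (w : π ≫ g = a ≫ f) (u : U) :
    wt π u = wt f (a u) := by
  rw [wt, wt, ← LW_comp_right π g u, w, LW_comp_left a f u]

end Groth.Agent.H15Site.Trace
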