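import Groth.Agent.H15Site.Trace.StalkHom
import Groth.Agent.H15Site.Trace.Mult
import Groth.Agent.H15Site.Trace.Decomp
import Groth.Agent.H18Et.BaseChange
import Mathlib.AlgebraicGeometry.Morphisms.FlatRank

/-!
# The trace of a finite flat morphism
-/

set_option autoImplicit false
set_option linter.style.haveILetI false
set_option linter.unusedSectionVars false
set_option linter.overlappingInstances false
set_option backward.isDefEq.respectTransparency false
set_option backward.isDefEq.respectTransparency.types false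

universe u

open CategoryTheory CategoryTheory.Limits AlgebraicGeometry Opposite
open scoped Groth.Agent.H18Et

namespace Groth.Agent.H15Site.Trace

open Groth.Agent.H18Et EtShriek Groth.Agent.H15Site.Shriek

theorem ptOf_eq_pt {Z : Scheme.{u}} {Ω : Type u} [Field Ω] [IsSepClosed Ω] {ξ : Spec (CommRingCat.of Ω) ⟶ Z}
    {U : Z.Etale} (z : (Scheme.pointSmallEtale ξ).fiber.obj U) :
    ptOf z = H7Weight.pt (show Spec (CommRingCat.of Ω) ⟶ U.left from z.left) :=
  congrArg (show Spec (CommRingCat.of Ω) ⟶ U.left from z.left).base (Subsingleton.elim (α := ↥(Spec (CommRingCat.of Ω))) _ _)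

theorem germ_sub_eq_zero {Z : Scheme.{u}} {Ω : Type u} [Field Ω] [IsSepClosed Ω]
    {ξ : Spec (CommRingCat.of Ω) ⟶ Z} (G : EtCoh.Ab Z) {U : Z.Etale}
    (z : (Scheme.pointSmallEtale ξ).fiber.obj U) (a b : EtCoh.sect G U) :
    germ ξ G U z (a - b) = 0 ↔ germ ξ G U z a = germ ξ G U z b := by
  rw [map_sub, sub_eq_zero]

variable {X Y : Scheme.{u}} (f : X ⟶ Y) {Ω : Type u} [Field Ω] [IsAlgClosed Ω]
  {η : Spec (CommRingCat.of Ω) ⟶ Y} (F : EtCoh.Ab Y)

theorem bcPt_fst (ξ : Pts f η) (V : Y.Etale) (z : (Scheme.pointSmallEtale η).fiber.obj V) :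
    (show Spec (CommRingCat.of Ω) ⟶ pullback V.hom f from (bcPt ξ V z).left) ≫ pullback.fst V.hom f = z.left := by
  refine (Category.assoc _ _ _).trans ?_
  refine (congrArg (secPt ξ ≫ ·) (ιFib_fst V z)).trans ?_
  exact (Category.assoc _ _ _).symm.trans
    ((congrArg (· ≫ z.left) (pullback.lift_snd _ _ _)).trans (Category.id_comp _))

theorem bcPt_snd (ξ : Pts f η) (V : Y.Etale) (z : (Scheme.pointSmallEtale η).fiber.obj V) :
    (show Spec (CommRingCat.of Ω) ⟶ pullback V.hom f from (bcPt ξ V z).left) ≫ pullback.snd V.hom f = ξ.1 :=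
  Over.w (bcPt ξ V z)

/-- Evaluation of the inverse image at a lift. -/
noncomputable def ev (ξ : Pts f η) :
    (EtCoh.stalk ξ.1).obj ((EtCoh.pull f).obj F) ⟶ (EtCoh.stalk η).obj F :=
  (stalkPullIso f ξ.1).hom.app F ≫ eqToHom (congrArg (fun k => (EtCoh.stalk k).obj F) ξ.2)

theorem ev_germ (ξ : Pts f η) (V : Y.Etale) (z : (Scheme.pointSmallEtale η).fiber.obj V)
    (s : EtCoh.sect F V) :
    ev f F ξ (germ ξ.1 ((EtCoh.pull f).obj F) _ (bcPt ξ V z)
      (((EtCoh.pullPushAdj f).unit.app F).hom.app (op V) s)) = germ η F V z s := by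
  obtain ⟨ξ, hξ⟩ := ξ
  subst hξ
  have hpt : bcPt (⟨ξ, rfl⟩ : Pts f (ξ ≫ f)) V z = (fiberCompIso f ξ).inv.app V z := by
    refine Over.OverMorphism.ext (pullback.hom_ext ?_ ?_)
    · exact (bcPt_fst f _ V z).trans (fiberCompIso_inv_left f ξ V z).symm
    · exact (bcPt_snd f _ V z).trans (Over.w ((fiberCompIso f ξ).inv.app V z)).symm
  rw [hpt, ev, ← stalkPullIso_inv_germ, eqToHom_refl, Category.comp_id]
  exact ((stalkPullIso f ξ).app F).inv_hom_id_apply _

/-- The underlying functor composite. -/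
noncomputable abbrev PP : EtCoh.Ab Y := (EtCoh.push f).obj ((EtCoh.pull f).obj F)

variable [IsFinite f] [Flat f] [LocallyOfFinitePresentation f]

/-- The trace on a stalk. -/
noncomputable def τ (Ω : Type u) [Field Ω] [IsAlgClosed Ω] (η : Spec (CommRingCat.of Ω) ⟶ Y) :
    (EtCoh.stalk η).obj (PP f F) →+ (EtCoh.stalk η).obj F :=
  letI : Finite (Pts f η) := finite_pts f η
  letI := Fintype.ofFinite (Pts f η)
  ∑ ξ : Pts f η, wt f (H7Weight.pt ξ.1) •
    (ev f F ξ).hom.comp ((pushEval ξ).app ((EtCoh.pull f).obj F)).hom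

theorem τ_germ (Ω : Type u) [Field Ω] [IsAlgClosed Ω] (η : Spec (CommRingCat.of Ω) ⟶ Y)
    [Fintype (Pts f η)] (V : Y.Etale) (z : (Scheme.pointSmallEtale η).fiber.obj V)
    (t : EtCoh.sect (PP f F) V) :
    τ f F Ω η (germ η (PP f F) V z t) =
      ∑ ξ : Pts f η, wt f (H7Weight.pt ξ.1) •
        ev f F ξ (germ ξ.1 ((EtCoh.pull f).obj F) _ (bcPt ξ V z) t) := by
  rw [τ, AddMonoidHom.finsetSum_apply]
  refine Finset.sum_congr (Finset.ext fun _ => iff_of_true (@Finset.mem_univ _ (Fintype.ofFinite _) _) (Finset.mem_univ _)) fun ξ _ => ?_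
  rw [AddMonoidHom.smul_apply, AddMonoidHom.comp_apply]
  exact congrArg (fun a => wt f (H7Weight.pt ξ.1) • ev f F ξ a) (pushEval_germ ξ ((EtCoh.pull f).obj F) V z t)

theorem exists_bcPt_of_over (V : Y.Etale) (z : (Scheme.pointSmallEtale η).fiber.obj V)
    (p : ((EtCoh.bc f).obj V).left) (hp : (pullback.fst V.hom f).base p = ptOf z) :
    ∃ ξ : Pts f η, ptOf (bcPt ξ V z) = p := by
  let lv : Spec (CommRingCat.of Ω) ⟶ V.left := z.left
  obtain ⟨q, hq, -⟩ := Scheme.Pullback.exists_preimage_pullback (f := pullback.fst V.hom f) (g := lv) p default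
    (hp.trans ((ptOf_eq_pt z).trans (congrArg lv.base (Subsingleton.elim _ _))))
  obtain ⟨ξ, hξ⟩ := surjective_qOf (f := f) (η := η) ((isPullback_ιFib (f := f) V z).isoPullback.inv.base q)
  refine ⟨ξ, (ptOf_bcPt ξ V z).trans ((congrArg (ιFib V z).base hξ).trans ?_)⟩
  exact ((Scheme.Hom.comp_apply _ _ _).symm.trans
    (congrArg (fun k => k.base q) (isPullback_ιFib (f := f) V z).isoPullback_inv_fst)).trans hq

variable {f}

/-- The lifts lying in a piece are the lifts for the piece. -/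
noncomputable def pieceEquiv {V : Y.Etale} (z : (Scheme.pointSmallEtale η).fiber.obj V)
    (D : ((EtCoh.bc f).obj V).left.Opens) :
    {ξ : Pts f η // ptOf (bcPt ξ V z) ∈ D} ≃
      H7Weight.Pts (D.ι ≫ pullback.fst V.hom f) (show Spec (CommRingCat.of Ω) ⟶ V.left from z.left) where
  toFun ξ := ⟨IsOpenImmersion.lift D.ι (bcPt ξ.1 V z).left (by
      rintro _ ⟨a, rfl⟩
      rw [Scheme.Opens.range_ι]
      exact Set.mem_of_eq_of_mem ((congrArg (bcPt ξ.1 V z).left.base (Subsingleton.elim a _)).trans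
        (ptOf_eq_pt _).symm) ξ.2),
    (Category.assoc _ _ _).symm.trans ((congrArg (· ≫ pullback.fst V.hom f)
      (IsOpenImmersion.lift_fac _ _ _)).trans (bcPt_fst f ξ.1 V z))⟩
  invFun u := ⟨⟨(u.1 ≫ D.ι) ≫ pullback.snd V.hom f, by
      refine (Category.assoc _ _ _).trans ((congrArg ((u.1 ≫ D.ι) ≫ ·) pullback.condition.symm).trans ?_)
      exact (Category.assoc _ _ _).symm.trans ((congrArg (· ≫ V.hom)
        ((Category.assoc _ _ _).trans u.2)).trans (Over.w z))⟩, by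
    rw [ptOf_eq_pt]
    have e : (bcPt (⟨(u.1 ≫ D.ι) ≫ pullback.snd V.hom f, by
        refine (Category.assoc _ _ _).trans ((congrArg ((u.1 ≫ D.ι) ≫ ·) pullback.condition.symm).trans ?_)
        exact (Category.assoc _ _ _).symm.trans ((congrArg (· ≫ V.hom)
          ((Category.assoc _ _ _).trans u.2)).trans (Over.w z))⟩ : Pts f η) V z).left = u.1 ≫ D.ι :=
      pullback.hom_ext ((bcPt_fst f _ V z).trans (((Category.assoc _ _ _).trans u.2)).symm)
        (bcPt_snd f _ V z)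
    exact Set.mem_of_eq_of_mem (congrArg (fun k => H7Weight.pt k) e) (u.1 (IsLocalRing.closedPoint Ω)).2⟩
  left_inv ξ := Subtype.ext (Subtype.ext
    ((congrArg (· ≫ pullback.snd V.hom f) (IsOpenImmersion.lift_fac _ _ _)).trans (bcPt_snd f ξ.1 V z)))
  right_inv u := Subtype.ext ((cancel_mono D.ι).1 ((IsOpenImmersion.lift_fac _ _ _).trans
    (pullback.hom_ext ((bcPt_fst f _ V z).trans (((Category.assoc _ _ _).trans u.2)).symm)
      (bcPt_snd f _ V z))))

theorem pieceEquiv_snd {V : Y.Etale} (z : (Scheme.pointSmallEtale η).fiber.obj V)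
    (D : ((EtCoh.bc f).obj V).left.Opens) (ξ : {ξ : Pts f η // ptOf (bcPt ξ V z) ∈ D}) :
    ((pieceEquiv z D ξ).1 ≫ D.ι) ≫ pullback.snd V.hom f = ξ.1.1 :=
  (congrArg (· ≫ pullback.snd V.hom f) (IsOpenImmersion.lift_fac _ _ _)).trans (bcPt_snd f ξ.1 V z)

theorem isFinite_piece {V : Y.Etale} (D : ((EtCoh.bc f).obj V).left.Opens)
    (hD : IsClosed (D : Set ((EtCoh.bc f).obj V).left)) : IsFinite (D.ι ≫ pullback.fst V.hom f) := by
  haveI : IsClosedImmersion D.ι := IsClosedImmersion.of_isPreimmersion D.ι (by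
    rw [Scheme.Opens.range_ι]; exact hD)
  infer_instance

/-- The multiplicities in a clopen piece add up to its rank. -/
theorem sum_piece {V : Y.Etale} (z : (Scheme.pointSmallEtale η).fiber.obj V)
    (D : ((EtCoh.bc f).obj V).left.Opens) [IsFinite (D.ι ≫ pullback.fst V.hom f)]
    [Fintype {ξ : Pts f η // ptOf (bcPt ξ V z) ∈ D}] :
    ∑ ξ : {ξ : Pts f η // ptOf (bcPt ξ V z) ∈ D}, wt f (H7Weight.pt ξ.1.1) =
      ((D.ι ≫ pullback.fst V.hom f).finrank (ptOf z) : ℤ) := by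
  letI := Fintype.ofEquiv _ (pieceEquiv z D)
  rw [ptOf_eq_pt, ← sum_wt (D.ι ≫ pullback.fst V.hom f)]
  refine Fintype.sum_equiv (pieceEquiv z D) _ _ fun ξ => ?_
  haveI : Etale V.hom := V.prop
  haveI : Etale (D.ι ≫ pullback.snd V.hom f) := inferInstance
  rw [wt_comp (D.ι ≫ pullback.fst V.hom f) (D.ι ≫ pullback.snd V.hom f) f V.hom
    (by rw [Category.assoc, Category.assoc, pullback.condition]), ← H7Weight.pt_comp, ← Category.assoc,
    pieceEquiv_snd]

variable (f)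

set_option maxHeartbeats 1000000 in
theorem locRep : LocRep (τ f F) := by
  classical
  intro V t x
  let η := algPt (V.hom x)
  obtain ⟨z, hz⟩ := exists_fiber_over x η (algPt_base _)
  haveI : Finite (Pts f η) := finite_pts f η
  haveI := Fintype.ofFinite (Pts f η)
  let G := (EtCoh.pull f).obj F
  choose W w s hs using fun ξ : Pts f η =>
    germ_surjective η F (ev f F ξ (germ ξ.1 G _ (bcPt ξ V z) t))
  obtain ⟨V₁, g₁, z₁, D₁, hz₁, hD₁, hcl₁, hdis₁⟩ := exists_decomp f η V z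
  obtain ⟨V₂, z₂, hg⟩ := exists_common_nbhd (Finset.univ : Finset (Option (Pts f η)))
    (fun o => o.elim V₁ W) (fun o => match o with | none => z₁ | some ξ => w ξ)
  obtain ⟨a, ha⟩ := hg none (Finset.mem_univ _)
  choose b hb using fun ξ => hg (some ξ) (Finset.mem_univ _)
  let π : ((EtCoh.bc f).obj V₂).left ⟶ V₂.left := pullback.fst V₂.hom f
  let D : Pts f η → ((EtCoh.bc f).obj V₂).left.Opens := fun ξ => ((EtCoh.bc f).map a).left ⁻¹ᵁ D₁ ξ
  have hcl : ∀ ξ, IsClosed (D ξ : Set ((EtCoh.bc f).obj V₂).left) := fun ξ =>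
    (hcl₁ ξ).preimage ((EtCoh.bc f).map a).left.continuous
  have hD : ∀ ξ, ptOf (bcPt ξ V₂ z₂) ∈ D ξ := fun ξ => by
    show ((EtCoh.bc f).map a).left.base (ptOf (bcPt ξ V₂ z₂)) ∈ D₁ ξ
    rw [ptOf_map, bcPt_map ξ a ha]
    exact hD₁ ξ
  have hdis : ∀ ξ ξ' p, p ∈ D ξ → p ∈ D ξ' → ξ = ξ' := fun ξ ξ' p h h' => hdis₁ ξ ξ' _ h h'
  haveI : ∀ ξ, IsFinite ((D ξ).ι ≫ π) := fun ξ => isFinite_piece (D ξ) (hcl ξ)
  let g : V₂ ⟶ V := a ≫ g₁
  have hgz : (Scheme.pointSmallEtale η).fiber.map g z₂ = z := by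
    rw [← hz₁]
    exact (ConcreteCategory.congr_hom ((Scheme.pointSmallEtale η).fiber.map_comp a g₁) z₂).trans
      (congrArg ((Scheme.pointSmallEtale η).fiber.map g₁) ha)
  let t₂ : EtCoh.sect G ((EtCoh.bc f).obj V₂) := G.obj.map ((EtCoh.bc f).map g).op t
  let s₂ : Pts f η → EtCoh.sect F V₂ := fun ξ => F.obj.map (b ξ).op (s ξ)
  let u₂ : Pts f η → EtCoh.sect G ((EtCoh.bc f).obj V₂) := fun ξ =>
    ((EtCoh.pullPushAdj f).unit.app F).hom.app (op V₂) (s₂ ξ)
  let δ : Pts f η → EtCoh.sect G ((EtCoh.bc f).obj V₂) := fun ξ => t₂ - u₂ ξ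
  let bad : Set V₂.left :=
    π.base '' (⋃ ξ, sectSupp G _ (δ ξ) ∩ D ξ) ∪ π.base '' (⋃ ξ, (D ξ : Set ((EtCoh.bc f).obj V₂).left))ᶜ
  have hbad : IsClosed bad := (π.isClosedMap _ (isClosed_iUnion_of_finite fun ξ =>
    (isClosed_sectSupp G _ (δ ξ)).inter (hcl ξ))).union
      (π.isClosedMap _ (isOpen_iUnion fun ξ => (D ξ).2).isClosed_compl)
  have hev : ∀ ξ, ev f F ξ (germ ξ.1 G _ (bcPt ξ V₂ z₂) t₂) = germ η F V₂ z₂ (s₂ ξ) := fun ξ => by
    have h1 : germ ξ.1 G _ (bcPt ξ V₂ z₂) t₂ = germ ξ.1 G _ (bcPt ξ V z) t :=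
      ((Scheme.pointSmallEtale ξ.1).toPresheafFiber_w_apply ((EtCoh.bc f).map g) _ G.obj t).trans
        (congrArg (fun q => germ ξ.1 G _ q t) (bcPt_map ξ g hgz))
    rw [h1, ← hs ξ]
    exact (((Scheme.pointSmallEtale η).toPresheafFiber_w_apply (b ξ) z₂ F.obj (s ξ)).trans
      (congrArg (fun q => germ η F _ q (s ξ)) (hb ξ))).symm
  have hz₂ : ptOf z₂ ∉ bad := by
    rintro (⟨p, hp, hpz⟩ | ⟨p, hp, hpz⟩) <;> obtain ⟨ξ', rfl⟩ := exists_bcPt_of_over f V₂ z₂ p hpz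
    · obtain ⟨ξ, hsupp, hmem⟩ := Set.mem_iUnion.1 hp
      obtain rfl := hdis ξ ξ' _ hmem (hD ξ')
      refine (germ_eq_zero_iff G (bcPt ξ V₂ z₂) (δ ξ)).1 ?_ hsupp
      refine (germ_sub_eq_zero G (bcPt ξ V₂ z₂) t₂ (u₂ ξ)).2 ?_
      haveI : IsIso (ev f F ξ) := by rw [ev]; infer_instance
      exact (ConcreteCategory.bijective_of_isIso (ev f F ξ)).1 ((hev ξ).trans (ev_germ f F ξ V₂ z₂ _).symm)
    · exact hp (Set.mem_iUnion.2 ⟨ξ', hD ξ'⟩)
  let n : Pts f η → ℕ := fun ξ => ((D ξ).ι ≫ π).finrank (ptOf z₂)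
  let N : V₂.left.Opens := ⟨(⋂ ξ, {v | ((D ξ).ι ≫ π).finrank v = n ξ}) ∩ badᶜ,
    (isOpen_iInter_of_finite fun ξ =>
      (Scheme.Hom.isLocallyConstant_finrank ((D ξ).ι ≫ π)).isOpen_fiber (n ξ)).inter hbad.isOpen_compl⟩
  have hzN : ptOf z₂ ∈ N := ⟨Set.mem_iInter.2 fun ξ => rfl, hz₂⟩
  refine ⟨openObj V₂ N, openHom V₂ N ≫ g, ⟨ptOf z₂, hzN⟩,
    F.obj.map (openHom V₂ N).op (∑ ξ, (n ξ : ℤ) • s₂ ξ), ?_, ?_⟩
  · show g.left.base (ptOf z₂) = x
    rw [ptOf_map, hgz, hz]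
  intro Ω' _ _ η' y
  let q := (Scheme.pointSmallEtale η').fiber.map (openHom V₂ N) y
  have hq : ptOf q ∈ N := openPt_mem N y rfl
  haveI : Finite (Pts f η') := finite_pts f η'
  haveI := Fintype.ofFinite (Pts f η')
  have hl : germ η' (PP f F) (openObj V₂ N) y ((PP f F).obj.map (openHom V₂ N ≫ g).op t) =
      germ η' (PP f F) V₂ q t₂ := by
    rw [op_comp, Functor.map_comp, ConcreteCategory.comp_apply]
    exact (Scheme.pointSmallEtale η').toPresheafFiber_w_apply (openHom V₂ N) y (PP f F).obj t₂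
  rw [hl, τ_germ]
  refine ((Scheme.pointSmallEtale η').toPresheafFiber_w_apply (openHom V₂ N) y F.obj _).trans ?_
  have hcov : ∀ ξ' : Pts f η', ∃ ξ, ptOf (bcPt ξ' V₂ q) ∈ D ξ := fun ξ' => by
    by_contra hn
    refine hq.2 (Or.inr ⟨_, fun h => hn (Set.mem_iUnion.1 h), ?_⟩)
    rw [ptOf_eq_pt, ptOf_eq_pt]
    exact congrArg (fun k => H7Weight.pt k) (bcPt_fst f ξ' V₂ q)
  choose c hc using hcov
  have hterm : ∀ ξ' : Pts f η', ev f F ξ' (germ ξ'.1 G _ (bcPt ξ' V₂ q) t₂) =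
      germ η' F V₂ q (s₂ (c ξ')) := fun ξ' => by
    rw [← ev_germ f F ξ' V₂ q]
    refine congrArg (ev f F ξ') ((germ_sub_eq_zero G (bcPt ξ' V₂ q) t₂ (u₂ (c ξ'))).1 ?_)
    refine (germ_eq_zero_iff G (bcPt ξ' V₂ q) (δ (c ξ'))).2 fun h => hq.2 (Or.inl ⟨ptOf (bcPt ξ' V₂ q), ?_, ?_⟩)
    · exact Set.mem_iUnion.2 ⟨c ξ', h, hc ξ'⟩
    · rw [ptOf_eq_pt, ptOf_eq_pt]
      exact congrArg (fun k => H7Weight.pt k) (bcPt_fst f ξ' V₂ q)
  rw [Finset.sum_congr rfl fun ξ' _ => congrArg _ (hterm ξ'), ← Finset.sum_fiberwise Finset.univ c, map_sum]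
  refine Finset.sum_congr rfl fun ξ _ => ?_
  rw [Finset.sum_congr rfl (g := fun ξ' => wt f (H7Weight.pt ξ'.1) • germ η' F V₂ q (s₂ ξ)) fun ξ' hξ' => by
    rw [(Finset.mem_filter.1 hξ').2], ← Finset.sum_smul, map_zsmul]
  congr 1
  rw [Finset.sum_subtype (p := fun ξ' => ptOf (bcPt ξ' V₂ q) ∈ D ξ) (Finset.filter (fun ξ' => c ξ' = ξ) Finset.univ)
    (fun ξ' => by
      rw [Finset.mem_filter]
      exact ⟨fun h => h.2 ▸ hc ξ', fun h => ⟨Finset.mem_univ _, hdis _ _ _ (hc ξ') h⟩⟩)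
    (fun ξ' => wt f (H7Weight.pt ξ'.1)), sum_piece]
  exact_mod_cast (Set.mem_iInter.1 hq.1 ξ).symm

/-- The trace of a finite flat morphism. -/
noncomputable def trace : EtCoh.pull f ⋙ EtCoh.push f ⟶ 𝟭 (EtCoh.Ab Y) where
  app F := homOfStalk (locRep f F)
  naturality F F' α := by
    refine hom_ext_stalk fun Ω _ _ η a => ?_
    haveI : Finite (Pts f η) := finite_pts f η
    haveI := Fintype.ofFinite (Pts f η)
    obtain ⟨V, z, t, rfl⟩ := germ_surjective η (PP f F) a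
    rw [Functor.map_comp, Functor.map_comp, ConcreteCategory.comp_apply, ConcreteCategory.comp_apply,
      stalk_homOfStalk]
    refine Eq.trans ?_ (congrArg ((EtCoh.stalk η).map α) (stalk_homOfStalk (locRep f F) Ω η _).symm)
    rw [τ_germ f F]
    refine (congrArg (τ f F' Ω η) (germ_naturality η ((EtCoh.push f).map ((EtCoh.pull f).map α)) V z t)).trans ?_
    rw [τ_germ f F', map_sum]
    refine Finset.sum_congr rfl fun ξ _ => ?_
    rw [map_zsmul]
    refine congrArg _ ?_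
    obtain ⟨ξ, hξ⟩ := ξ
    subst hξ
    refine (congrArg _ (germ_naturality ξ ((EtCoh.pull f).map α) _ _ t).symm).trans ?_
    rw [ev, ev, eqToHom_refl, eqToHom_refl, Category.comp_id, Category.comp_id]
    exact ConcreteCategory.congr_hom ((stalkPullIso f ξ).hom.naturality α) _

/-- The normalisation. -/
theorem unit_trace (n : ℕ) (hn : ∀ y : Y, f.finrank y = n) :
    (EtCoh.pullPushAdj f).unit.app F ≫ (trace f).app F = n • 𝟙 F := by
  refine hom_ext_stalk fun Ω _ _ η a => ?_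
  haveI : Finite (Pts f η) := finite_pts f η
  haveI := Fintype.ofFinite (Pts f η)
  obtain ⟨V, z, s, rfl⟩ := germ_surjective η F a
  rw [Functor.map_comp, ConcreteCategory.comp_apply]
  refine (congrArg ((EtCoh.stalk η).map ((trace f).app F))
    (germ_naturality η ((EtCoh.pullPushAdj f).unit.app F) V z s)).trans ?_
  refine (stalk_homOfStalk (locRep f F) Ω η _).trans ?_
  refine (τ_germ f F Ω η V z _).trans ?_
  rw [Finset.sum_congr rfl fun ξ _ => congrArg _ (ev_germ f F ξ V z s), ← Finset.sum_smul,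
    sum_wt f η, hn, natCast_zsmul]
  refine ((germ_naturality η (n • 𝟙 F) V z s).trans ?_).symm
  exact map_nsmul _ n s

end Groth.Agent.H15Site.Trace
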