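import Groth.Agent.H15Site.Trace.UniqueBase

/-!
# Trace families agree on split covers of an algebraically closed field
-/

set_option autoImplicit false
set_option linter.style.haveILetI false
set_option linter.unusedSectionVars false
set_option linter.overlappingInstances false
set_option backward.isDefEq.respectTransparency false
set_option backward.isDefEq.respectTransparency.types false

universe u

open CategoryTheory CategoryTheory.Limits AlgebraicGeometry Opposite
open scoped Groth.Agent.H18Et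

namespace Groth.Agent.H15Site.Trace

open Groth.Agent.H18Et Groth.Agent.H18Et.ConstSheaf

variable (Ω : Type u) [Field Ω] (ι : Type u) [Finite ι]

/-- The split cover. -/
noncomputable abbrev splitScheme : Scheme.{u} := Spec (CommRingCat.of (ι → Ω))

/-- The structure map of the split cover. -/
noncomputable def fold : splitScheme Ω ι ⟶ Spec (CommRingCat.of Ω) :=
  Spec.map (CommRingCat.ofHom (algebraMap Ω (ι → Ω)))

/-- The sections of the split cover. -/
noncomputable def delta (i : ι) : Spec (CommRingCat.of Ω) ⟶ splitScheme Ω ι :=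
  Spec.map (CommRingCat.ofHom (Pi.evalRingHom (fun _ : ι => Ω) i))

instance isOpenImmersion_delta (i : ι) : IsOpenImmersion (delta Ω ι i) := by
  unfold delta; infer_instance

theorem delta_fold (i : ι) : delta Ω ι i ≫ fold Ω ι = 𝟙 _ := by
  rw [delta, fold, ← Spec.map_comp, show CommRingCat.ofHom (algebraMap Ω (ι → Ω)) ≫
    CommRingCat.ofHom (Pi.evalRingHom (fun _ : ι => Ω) i) = 𝟙 _ from rfl, Spec.map_id]

instance isFinite_fold : IsFinite (fold Ω ι) := by
  rw [fold, IsFinite.SpecMap_iff, CommRingCat.hom_ofHom, RingHom.finite_algebraMap]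
  infer_instance

instance flat_fold : Flat (fold Ω ι) := by
  rw [fold, Flat.SpecMap_iff, CommRingCat.hom_ofHom, RingHom.flat_algebraMap_iff]
  infer_instance

instance lfp_fold : LocallyOfFinitePresentation (fold Ω ι) := by
  rw [LocallyOfFinitePresentation.iff_locallyOfFiniteType]
  infer_instance

variable {Ω} {ι}

theorem mem_delta_iff (i : ι) (f : ι → Ω) (d : Spec (CommRingCat.of Ω)) :
    f ∈ ((delta Ω ι i).base d).asIdeal ↔ f i = 0 := by
  show Pi.evalRingHom (fun _ : ι => Ω) i f ∈ d.asIdeal ↔ _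
  rw [asIdeal_eq_bot_of_field d]
  exact Ideal.mem_bot

theorem delta_base_injective {i j : ι} {d d' : Spec (CommRingCat.of Ω)}
    (e : (delta Ω ι i).base d = (delta Ω ι j).base d') : i = j := by
  classical
  by_contra hij
  have h : (Pi.single j 1 : ι → Ω) ∈ ((delta Ω ι i).base d).asIdeal :=
    (mem_delta_iff i _ d).2 (Pi.single_eq_of_ne hij 1)
  rw [e, mem_delta_iff, Pi.single_eq_same] at h
  exact one_ne_zero h

theorem exists_delta_base (p : splitScheme Ω ι) : ∃ i, (delta Ω ι i).base default = p := by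
  classical
  haveI := Fintype.ofFinite ι
  obtain ⟨i, hi⟩ : ∃ i, (Pi.single i 1 : ι → Ω) ∉ p.asIdeal := by
    by_contra h
    simp only [not_exists, not_not] at h
    refine p.isPrime.ne_top ((Ideal.eq_top_iff_one _).2 ?_)
    rw [show (1 : ι → Ω) = ∑ i, Pi.single i 1 from (Finset.univ_sum_single _).symm]
    exact p.asIdeal.sum_mem fun i _ => h i
  refine ⟨i, PrimeSpectrum.ext (Ideal.ext fun f => (mem_delta_iff i f _).trans ?_)⟩
  have hf : f * Pi.single i 1 = Pi.single i (f i) := by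
    funext j
    by_cases hj : j = i
    · subst hj; simp
    · simp [Pi.single_eq_of_ne hj]
  refine ⟨fun h => ?_, fun h => ?_⟩
  · rw [h, Pi.single_zero] at hf
    exact (p.isPrime.mem_or_mem (hf.symm ▸ p.asIdeal.zero_mem)).resolve_right hi
  · by_contra hne
    refine hi ?_
    have : Pi.single i (f i)⁻¹ * (f * Pi.single i 1) = (Pi.single i 1 : ι → Ω) := by
      rw [hf, ← Pi.single_mul, inv_mul_cancel₀ hne]
    rw [← this]
    exact p.asIdeal.mul_mem_left _ (p.asIdeal.mul_mem_right _ h)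

theorem exists_eq_comp_delta {K : Type u} [Field K] (y : Spec (CommRingCat.of K) ⟶ splitScheme Ω ι) :
    ∃ i, y = (y ≫ fold Ω ι) ≫ delta Ω ι i := by
  obtain ⟨i, hi⟩ := exists_delta_base (y.base default)
  have h : Set.range y.base ⊆ Set.range (delta Ω ι i).base := by
    rintro _ ⟨a, rfl⟩
    exact ⟨default, by rw [hi, Subsingleton.elim a default]⟩
  refine ⟨i, ?_⟩
  let k := IsOpenImmersion.lift (delta Ω ι i) y h
  have hk : k ≫ delta Ω ι i = y := IsOpenImmersion.lift_fac _ _ _
  have : y ≫ fold Ω ι = k := by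
    rw [← hk, Category.assoc, delta_fold, Category.comp_id]
  rw [this, hk]

variable (Ω) in
/-- The constant sheaf of integers. -/
noncomputable abbrev intSheaf : EtCoh.Ab (Spec (CommRingCat.of Ω)) :=
  (constantSheaf (Spec (CommRingCat.of Ω)).smallEtaleTopology AddCommGrpCat.{u + 1}).obj
    (AddCommGrpCat.of (ULift.{u + 1} ℤ))

section Split

variable [IsAlgClosed Ω] {η : Spec (CommRingCat.of Ω) ⟶ Spec (CommRingCat.of Ω)}

/-- The lifts given by the sections. -/
noncomputable def secOf (hη : η = 𝟙 _) (i : ι) : Pts (fold Ω ι) η :=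
  ⟨delta Ω ι i, (delta_fold Ω ι i).trans hη.symm⟩

theorem secOf_bijective (hη : η = 𝟙 _) : Function.Bijective (secOf (ι := ι) hη) := by
  refine ⟨fun i j e => delta_base_injective (d := default) (d' := default)
    (congrArg (fun k : Pts (fold Ω ι) η => k.1.base default) e), fun ξ => ?_⟩
  subst hη
  obtain ⟨i, hi⟩ := exists_eq_comp_delta ξ.1
  rw [ξ.2, Category.id_comp] at hi
  exact ⟨i, Subtype.ext hi.symm⟩

/-- The automorphism of the split cover given by a permutation. -/
noncomputable def permMap (p : Equiv.Perm ι) : splitScheme Ω ι ⟶ splitScheme Ω ι :=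
  Spec.map (CommRingCat.ofHom (Pi.ringHom fun i => Pi.evalRingHom (fun _ : ι => Ω) (p i)))

omit [IsAlgClosed Ω] in
theorem delta_permMap (p : Equiv.Perm ι) (i : ι) :
    delta Ω ι i ≫ permMap p = delta Ω ι (p i) := by
  rw [delta, delta, permMap, ← Spec.map_comp]
  rfl

omit [IsAlgClosed Ω] in
theorem permMap_fold (p : Equiv.Perm ι) : permMap p ≫ fold Ω ι = fold Ω ι := by
  rw [fold, permMap, ← Spec.map_comp]
  rfl

instance isIso_permMap (p : Equiv.Perm ι) : IsIso (permMap (Ω := Ω) p) := by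
  have h : ∀ q q' : Equiv.Perm ι, (∀ i, q (q' i) = i) → permMap (Ω := Ω) q' ≫ permMap q = 𝟙 _ := by
    intro q q' hq
    rw [permMap, permMap, ← Spec.map_comp, ← Spec.map_id]
    refine congrArg Spec.map (CommRingCat.hom_ext (RingHom.ext fun f => funext fun i => ?_))
    exact congrArg f (hq i)
  exact ⟨permMap p.symm, h p.symm p (p.symm_apply_apply), h p p.symm (p.apply_symm_apply)⟩

theorem isPullback_permMap (p : Equiv.Perm ι) :
    IsPullback (permMap p) (fold Ω ι) (fold Ω ι) (𝟙 _) :=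
  IsPullback.of_horiz_isIso ⟨(permMap_fold p).trans (Category.comp_id _).symm⟩

variable (F : EtCoh.Ab (Spec (CommRingCat.of Ω)))

theorem tr_perm {T : TrFam.{u}} (h2 : Var2 T) (p : Equiv.Perm ι)
    (hη : (𝟙 (Spec (CommRingCat.of Ω)) ≫ 𝟙 _ : Spec (CommRingCat.of Ω) ⟶ _) = 𝟙 _)
    (a a' : (EtCoh.stalk (𝟙 (Spec (CommRingCat.of Ω)) ≫ 𝟙 _)).obj (PP (fold Ω ι) F))
    (h : ∀ i, co (fold Ω ι) F (secOf hη (p i)) a = co (fold Ω ι) F (secOf hη i) a') :
    (EtCoh.stalk _).map (tr T (fold Ω ι) F) a = (EtCoh.stalk _).map (tr T (fold Ω ι) F) a' := by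
  refine tr_eq_of_two_squares (isPullback_permMap p) F h2 (η' := 𝟙 _)
    (IsPullback.of_horiz_isIso (fst := 𝟙 (splitScheme Ω ι)) ⟨by simp⟩) a a' fun ξ' => ?_
  obtain ⟨i, rfl⟩ := (secOf_bijective (ι := ι) rfl).2 ξ'
  rw [show mapPts (isPullback_permMap p).w (secOf rfl i) = secOf hη (p i) from
      Subtype.ext (delta_permMap p i),
    show mapPts (IsPullback.of_horiz_isIso (fst := 𝟙 (splitScheme Ω ι)) (snd := fold Ω ι)
      (f := fold Ω ι) (g := 𝟙 _) ⟨by simp⟩).w (secOf rfl i) = secOf hη i from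
      Subtype.ext (Category.comp_id _)]
  exact h i

/-- The value concentrated at one section. -/
noncomputable def conc [DecidableEq ι] (hη : η = 𝟙 _) (i : ι) (b : (EtCoh.stalk η).obj F) :
    (EtCoh.stalk η).obj (PP (fold Ω ι) F) :=
  (exists_co (fold Ω ι) F fun ξ =>
    if (Equiv.ofBijective _ (secOf_bijective (ι := ι) hη)).symm ξ = i then b else 0).choose

theorem co_conc [DecidableEq ι] (hη : η = 𝟙 _) (i j : ι) (b : (EtCoh.stalk η).obj F) :
    co (fold Ω ι) F (secOf hη j) (conc F hη i b) = if j = i then b else 0 := by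
  rw [conc, (exists_co (fold Ω ι) F fun ξ =>
    if (Equiv.ofBijective _ (secOf_bijective (ι := ι) hη)).symm ξ = i then b else 0).choose_spec]
  rw [show (Equiv.ofBijective _ (secOf_bijective (ι := ι) hη)).symm (secOf hη j) = j from
    Equiv.ofBijective_symm_apply_apply _ _ _]

theorem co_ext (hη : η = 𝟙 _) (a a' : (EtCoh.stalk η).obj (PP (fold Ω ι) F))
    (h : ∀ i, co (fold Ω ι) F (secOf hη i) a = co (fold Ω ι) F (secOf hη i) a') : a = a' :=
  co_injective (fold Ω ι) F a a' fun ξ => by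
    obtain ⟨i, rfl⟩ := (secOf_bijective (ι := ι) hη).2 ξ
    exact h i

theorem eq_sum_conc [DecidableEq ι] [Fintype ι] (hη : η = 𝟙 _)
    (a : (EtCoh.stalk η).obj (PP (fold Ω ι) F)) :
    a = ∑ i, conc F hη i (co (fold Ω ι) F (secOf hη i) a) := by
  refine co_ext F hη _ _ fun j => ?_
  rw [map_sum, Finset.sum_congr rfl fun i _ => co_conc F hη i j _, Finset.sum_ite_eq,
    if_pos (Finset.mem_univ _)]

variable {F}

theorem map_conc [DecidableEq ι] {F' : EtCoh.Ab (Spec (CommRingCat.of Ω))} (φ : F' ⟶ F)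
    (hη : η = 𝟙 _) (i : ι) (b : (EtCoh.stalk η).obj F') :
    (EtCoh.stalk η).map (mapPP (fold Ω ι) φ) (conc F' hη i b) =
      conc F hη i ((EtCoh.stalk η).map φ b) := by
  refine co_ext F hη _ _ fun j => ?_
  rw [co_naturality, co_conc, co_conc]
  split
  · rfl
  · exact map_zero _

/-- A germ over an algebraically closed field comes from a global section. -/
theorem exists_hom_of_germ (hη : η = 𝟙 _) (b : (EtCoh.stalk η).obj F) :
    ∃ (φ : intSheaf Ω ⟶ F)
      (b' : (EtCoh.stalk η).obj (intSheaf Ω)),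
      (EtCoh.stalk η).map φ b' = b := by
  obtain ⟨V, z, s, rfl⟩ := germ_surjective η F b
  subst hη
  let k : EtCoh.top (Spec (CommRingCat.of Ω)) ⟶ V :=
    MorphismProperty.Over.homMk z.left ((Over.w z).trans rfl) trivial
  let y : (Scheme.pointSmallEtale (𝟙 (Spec (CommRingCat.of Ω)))).fiber.obj (EtCoh.top _) :=
    Over.homMk (𝟙 _) (Category.comp_id _)
  let s₀ := F.obj.map k.op s
  let M := AddCommGrpCat.of (ULift.{u + 1} ℤ)
  let P := (Functor.const (Spec (CommRingCat.of Ω)).Etaleᵒᵖ).obj M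
  let β : P ⟶ F.obj :=
    { app := fun U => AddCommGrpCat.ofHom
        ((zmultiplesHom _ (rest F U.unop s₀)).comp
          (AddEquiv.ulift : ULift.{u + 1} ℤ ≃+ ℤ).toAddMonoidHom)
      naturality := fun U U' g => AddCommGrpCat.hom_ext (AddMonoidHom.ext fun m => by
        show m.down • rest F U'.unop s₀ = F.obj.map g (m.down • rest F U.unop s₀)
        rw [map_zsmul]
        exact congrArg _ (map_rest F g.unop s₀).symm) }
  let φ : intSheaf Ω ⟶ F :=
    ObjectProperty.homMk (sheafifyLift (Spec (CommRingCat.of Ω)).smallEtaleTopology β F.property)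
  refine ⟨φ, germ (𝟙 _) (intSheaf Ω) (EtCoh.top _) y (unitTop M ⟨1⟩), ?_⟩
  refine (germ_naturality (𝟙 _) φ (EtCoh.top _) y _).trans ?_
  have hu : φ.hom.app (op (EtCoh.top _)) (unitTop M ⟨1⟩) = rest F (EtCoh.top _) s₀ :=
    (ConcreteCategory.congr_hom (congrArg (fun k => k.app (op (EtCoh.top _)))
      (toSheafify_sheafifyLift (Spec (CommRingCat.of Ω)).smallEtaleTopology β F.property)) ⟨1⟩).trans
        (one_zsmul _)
  refine (congrArg (germ (𝟙 _) F _ y) hu).trans ((germ_rest_top _ F y s₀).trans ?_)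
  refine (germ_map _ F k y s).trans (congrArg (fun w => germ (𝟙 _) F V w s) ?_)
  exact Over.OverMorphism.ext (Category.id_comp _)

theorem eq_zero_of_nsmul {n : ℕ} (hn : n ≠ 0)
    (x : (EtCoh.stalk η).obj (intSheaf Ω)) (h : n • x = 0) : x = 0 := by
  let M := AddCommGrpCat.of (ULift.{u + 1} ℤ)
  let y : (Scheme.pointSmallEtale η).fiber.obj (EtCoh.top _) := Over.homMk η (Category.comp_id _)
  have hb := isConstant_unitTop (X := Spec (CommRingCat.of Ω)) M Ω η (EtCoh.top _) y
  obtain ⟨m, rfl⟩ := hb.2 x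
  let c : ULift.{u + 1} ℤ →+ (EtCoh.stalk η).obj
      ((constantSheaf (Spec (CommRingCat.of Ω)).smallEtaleTopology AddCommGrpCat.{u + 1}).obj M) :=
    (germ η ((constantSheaf (Spec (CommRingCat.of Ω)).smallEtaleTopology AddCommGrpCat.{u + 1}).obj M) (EtCoh.top _) y).hom.comp
      ((((constantSheaf (Spec (CommRingCat.of Ω)).smallEtaleTopology AddCommGrpCat.{u + 1}).obj M).obj.map
        ((EtCore.topIsTerminal _).from (EtCoh.top _)).op).hom.comp
        ((toSheafify (Spec (CommRingCat.of Ω)).smallEtaleTopology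
          ((Functor.const _).obj M)).app (op (EtCoh.top _))).hom)
  have hc : Function.Injective c := hb.1
  show c m = 0
  have h' : c (n • m) = c 0 := (map_nsmul c n m).trans (h.trans (map_zero c).symm)
  have hm : n • m = 0 := hc h'
  have : m = 0 := ULift.ext _ _ (by
    have e : n • m.down = 0 := congrArg ULift.down hm
    exact (smul_eq_zero.1 e).resolve_left hn)
  rw [this, map_zero]

variable (F)

theorem tr_fold_eq {T T₂ : TrFam.{u}} (h2 : Var2 T) (h2' : Var2 T₂) (h4 : Var4 T) (h4' : Var4 T₂)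
    (a : (EtCoh.stalk η).obj (PP (fold Ω ι) F)) (hη : η = 𝟙 (Spec (CommRingCat.of Ω)) ≫ 𝟙 _) :
    (EtCoh.stalk η).map (tr T (fold Ω ι) F) a = (EtCoh.stalk η).map (tr T₂ (fold Ω ι) F) a := by
  classical
  subst hη
  haveI := Fintype.ofFinite ι
  have hη : (𝟙 (Spec (CommRingCat.of Ω)) ≫ 𝟙 _ : Spec (CommRingCat.of Ω) ⟶ _) = 𝟙 _ :=
    Category.id_comp _
  rw [eq_sum_conc F hη a, map_sum, map_sum]
  refine Finset.sum_congr rfl fun i _ => ?_
  obtain ⟨φ, b', hb'⟩ := exists_hom_of_germ hη (co (fold Ω ι) F (secOf hη i) a)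
  rw [← hb', ← map_conc φ hη i b']
  suffices key : (EtCoh.stalk _).map (tr T (fold Ω ι) _) (conc _ hη i b') =
      (EtCoh.stalk _).map (tr T₂ (fold Ω ι) _) (conc _ hη i b') by
    have hnat : ∀ S : TrFam.{u}, (EtCoh.stalk (𝟙 _ ≫ 𝟙 _)).map (tr S (fold Ω ι) F)
        ((EtCoh.stalk (𝟙 _ ≫ 𝟙 _)).map (mapPP (fold Ω ι) φ) (conc _ hη i b')) =
        (EtCoh.stalk (𝟙 _ ≫ 𝟙 _)).map φ ((EtCoh.stalk _).map (tr S (fold Ω ι) _) (conc _ hη i b')) :=
      fun S => (ConcreteCategory.congr_hom ((EtCoh.stalk _).map_comp _ _) _).symm.trans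
        ((congrArg (fun k => (EtCoh.stalk (𝟙 _ ≫ 𝟙 _)).map k (conc _ hη i b')) (tr_naturality S (fold Ω ι) φ)).trans
          (ConcreteCategory.congr_hom ((EtCoh.stalk _).map_comp _ _) _))
    exact (hnat T).trans ((congrArg _ key).trans (hnat T₂).symm)
  let F' := intSheaf Ω
  have hswap : ∀ (S : TrFam.{u}), Var2 S → ∀ j, (EtCoh.stalk _).map (tr S (fold Ω ι) F') (conc F' hη j b') =
      (EtCoh.stalk _).map (tr S (fold Ω ι) F') (conc F' hη i b') := fun S hS j =>
    tr_perm F' hS (Equiv.swap i j) hη _ _ fun l => by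
      rw [co_conc, co_conc, if_congr (Equiv.swap_apply_eq_iff.trans (Eq.congr_right (Equiv.swap_apply_right i j))) rfl rfl]
  have hunit : (EtCoh.stalk (𝟙 _ ≫ 𝟙 _)).map (unitPP (fold Ω ι) F') b' = ∑ j, conc F' hη j b' :=
    (eq_sum_conc F' hη _).trans (Finset.sum_congr rfl fun j _ =>
      congrArg (conc F' hη j) (co_unit (fold Ω ι) F' (secOf hη j) b'))
  have hsum : ∀ (S : TrFam.{u}), Var2 S → Var4 S →
      Fintype.card ι • (EtCoh.stalk _).map (tr S (fold Ω ι) F') (conc F' hη i b') =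
        (EtCoh.stalk (𝟙 _ ≫ 𝟙 _)).map ((fold Ω ι).finrank default • 𝟙 F') b' := fun S hS hS' => by
    rw [← tr_unit (fold Ω ι) F' hS' (fun s => by rw [Subsingleton.elim s default]) b', hunit, map_sum,
      Finset.sum_congr rfl fun j _ => hswap S hS j, Finset.sum_const, Finset.card_univ]
  refine sub_eq_zero.1 (eq_zero_of_nsmul (n := Fintype.card ι) ?_ _ ?_)
  · exact @Fintype.card_ne_zero ι _ ⟨i⟩
  · rw [smul_sub, hsum T h2 h4, hsum T₂ h2' h4', sub_self]

end Split

end Groth.Agent.H15Site.Trace
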