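import Groth.Agent.H18Et.Support
import Groth.Agent.H15Site.Shriek.Exact

/-!
# Morphisms of étale sheaves from maps of stalks
-/

set_option autoImplicit false
set_option linter.style.haveILetI false
set_option linter.unusedSectionVars false
set_option backward.isDefEq.respectTransparency false
set_option backward.isDefEq.respectTransparency.types false

universe u

open CategoryTheory CategoryTheory.Limits AlgebraicGeometry Opposite
open scoped Groth.Agent.H18Et

namespace Groth.Agent.H15Site.Trace

open Groth.Agent.H18Et H15Site.Shriek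

variable {X : Scheme.{u}} {F G : EtCoh.Ab X}
  (τ : ∀ (Ω : Type u) [Field Ω] [IsAlgClosed Ω] (η : Spec (CommRingCat.of Ω) ⟶ X),
    (EtCoh.stalk η).obj G →+ (EtCoh.stalk η).obj F)

/-- `r` has the germs prescribed by `τ` and `t`. -/
def Rep {V : X.Etale} (t : EtCoh.sect G V) (r : EtCoh.sect F V) : Prop :=
  ∀ (Ω : Type u) [Field Ω] [IsAlgClosed Ω] (η : Spec (CommRingCat.of Ω) ⟶ X)
    (z : (Scheme.pointSmallEtale η).fiber.obj V), germ η F V z r = τ Ω η (germ η G V z t)

theorem rep_unique {V : X.Etale} {t : EtCoh.sect G V} {r r' : EtCoh.sect F V}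
    (h : Rep τ t r) (h' : Rep τ t r') : r = r' :=
  sect_ext' r r' fun x => ⟨AlgebraicClosure (X.residueField x), inferInstance, inferInstance,
    algPt x, algPt_base x, fun z => (h _ (algPt x) z).trans (h' _ (algPt x) z).symm⟩

theorem rep_map {V W : X.Etale} (g : W ⟶ V) {t : EtCoh.sect G V} {r : EtCoh.sect F V}
    (h : Rep τ t r) : Rep τ (G.obj.map g.op t) (F.obj.map g.op r) := fun Ω _ _ η z => by
  refine ((Scheme.pointSmallEtale η).toPresheafFiber_w_apply g z F.obj r).trans ?_
  refine (h Ω η _).trans (congrArg (τ Ω η) ?_)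
  exact ((Scheme.pointSmallEtale η).toPresheafFiber_w_apply g z G.obj t).symm

/-- Local existence of representatives. -/
def LocRep : Prop :=
  ∀ (V : X.Etale) (t : EtCoh.sect G V) (v : V.left), ∃ (W : X.Etale) (g : W ⟶ V) (w : W.left)
    (r : EtCoh.sect F W), g.left.base w = v ∧ Rep τ (G.obj.map g.op t) r

variable {τ} (h : LocRep τ)

include h in
theorem exists_rep {V : X.Etale} (t : EtCoh.sect G V) : ∃ r : EtCoh.sect F V, Rep τ t r := by
  choose W g w r hw hr using h V t
  have hgen : Sieve.generate (Presieve.ofArrows W g) ∈ X.smallEtaleTopology V :=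
    mem_topology_of_forall_point _ fun v =>
      ⟨_, g v, w v, ⟨_, 𝟙 _, _, Presieve.ofArrows.mk v, Category.id_comp _⟩, hw v⟩
  have hsheaf : Presieve.IsSheafFor (F.obj ⋙ CategoryTheory.forget _) (Presieve.ofArrows W g) := by
    rw [Presieve.isSheafFor_iff_generate]
    exact ((isSheaf_iff_isSheaf_of_type _ _).1
      ((sheafCompose _ (CategoryTheory.forget _)).obj F).property) _ hgen
  have hcomp : Presieve.Arrows.Compatible (F.obj ⋙ CategoryTheory.forget _) g r := by
    intro i j T gi gj e
    refine rep_unique τ (rep_map τ gi (hr i)) ?_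
    have e' : G.obj.map gi.op (G.obj.map (g i).op t) = G.obj.map gj.op (G.obj.map (g j).op t) := by
      rw [← Functor.map_comp_apply, ← Functor.map_comp_apply, ← op_comp, ← op_comp, e]
    rw [e']
    exact rep_map τ gj (hr j)
  obtain ⟨R, hR, -⟩ := (Presieve.isSheafFor_arrows_iff _ _).1 hsheaf r hcomp
  refine ⟨R, fun Ω _ _ η z => ?_⟩
  obtain ⟨y, hy⟩ := exists_fiber_lift (g (ptOf z)) z (w (ptOf z)) (hw (ptOf z))
  have h1 : germ η F _ y (F.obj.map (g (ptOf z)).op R) = germ η F V z R := by
    exact ((Scheme.pointSmallEtale η).toPresheafFiber_w_apply _ y F.obj R).trans (congrArg (fun q => germ η F V q R) hy)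
  have h2 : germ η G _ y (G.obj.map (g (ptOf z)).op t) = germ η G V z t := by
    exact ((Scheme.pointSmallEtale η).toPresheafFiber_w_apply _ y G.obj t).trans (congrArg (fun q => germ η G V q t) hy)
  rw [← h1, ← h2]
  refine Eq.trans ?_ (hr (ptOf z) Ω η y)
  exact congrArg (germ η F _ y) (hR (ptOf z))

/-- The morphism with the prescribed stalks. -/
noncomputable def homOfStalk : G ⟶ F := ObjectProperty.homMk
  { app := fun V => AddCommGrpCat.ofHom
      { toFun := fun t => (exists_rep h (V := V.unop) t).choose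
        map_zero' := rep_unique τ (exists_rep h (V := V.unop) 0).choose_spec fun Ω _ _ η z => by
          rw [map_zero, map_zero, map_zero]
        map_add' := fun a b => rep_unique τ (exists_rep h (V := V.unop) (a + b)).choose_spec
          fun Ω _ _ η z => by
            rw [map_add, map_add, map_add, (exists_rep h (V := V.unop) a).choose_spec Ω η z,
              (exists_rep h (V := V.unop) b).choose_spec Ω η z] }
    naturality := fun V V' g => by
      ext t
      exact rep_unique τ (exists_rep h (V := V'.unop) (G.obj.map g t)).choose_spec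
        (rep_map τ g.unop (exists_rep h (V := V.unop) t).choose_spec) }

theorem rep_homOfStalk {V : X.Etale} (t : EtCoh.sect G V) :
    Rep τ t ((homOfStalk h).hom.app (op V) t) :=
  (exists_rep h t).choose_spec

theorem stalk_homOfStalk (Ω : Type u) [Field Ω] [IsAlgClosed Ω] (η : Spec (CommRingCat.of Ω) ⟶ X)
    (a : (EtCoh.stalk η).obj G) : (EtCoh.stalk η).map (homOfStalk h) a = τ Ω η a := by
  obtain ⟨V, z, t, rfl⟩ := germ_surjective η G a
  exact (germ_naturality η (homOfStalk h) V z t).trans (rep_homOfStalk h t Ω η z)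

theorem hom_ext_stalk {φ ψ : G ⟶ F}
    (e : ∀ (Ω : Type u) [Field Ω] [IsAlgClosed Ω] (η : Spec (CommRingCat.of Ω) ⟶ X)
      (a : (EtCoh.stalk η).obj G), (EtCoh.stalk η).map φ a = (EtCoh.stalk η).map ψ a) : φ = ψ := by
  refine ObjectProperty.hom_ext _ (NatTrans.ext (funext fun W => AddCommGrpCat.hom_ext
    (AddMonoidHom.ext fun s => ?_)))
  obtain ⟨V, rfl⟩ : ∃ V, W = op V := ⟨W.unop, rfl⟩
  refine sect_ext' _ _ fun x => ⟨AlgebraicClosure (X.residueField x), inferInstance, inferInstance,
    algPt x, algPt_base x, fun z => ?_⟩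
  exact (germ_naturality (algPt x) φ V z s).symm.trans
    ((e _ (algPt x) _).trans (germ_naturality (algPt x) ψ V z s))

end Groth.Agent.H15Site.Trace
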