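import Groth.Agent.H15Site.Trace.Split

/-!
# Uniqueness of the trace
-/

set_option autoImplicit false
set_option linter.style.haveILetI false
set_option linter.unusedSectionVars false
set_option linter.overlappingInstances false
set_option backward.isDefEq.respectTransparency false
set_option backward.isDefEq.respectTransparency.types false

universe u

open CategoryTheory CategoryTheory.Limits AlgebraicGeometry Opposite
open scoped Groth.Agent.H18Et

namespace Groth.Agent.H15Site.Trace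

open Groth.Agent.H18Et

theorem tr_var3 {T : TrFam.{u}} (h3 : Var3 T) {X Y S : Scheme.{u}} (h : X ⟶ Y) (g : Y ⟶ S)
    [IsFinite h] [Flat h] [LocallyOfFinitePresentation h]
    [IsFinite g] [Flat g] [LocallyOfFinitePresentation g]
    [IsFinite (h ≫ g)] [Flat (h ≫ g)] [LocallyOfFinitePresentation (h ≫ g)] (F : EtCoh.Ab S) :
    tr T (h ≫ g) F =
      (EtCoh.push (h ≫ g)).map ((EtCore.pullComp h g).hom.app F) ≫
        (EtCoh.pushComp g h).inv.app ((EtCoh.pull h).obj ((EtCoh.pull g).obj F)) ≫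
        (EtCoh.push g).map (tr T h ((EtCoh.pull g).obj F)) ≫ tr T g F :=
  h3.prop h g F

theorem tr_comp_eq {T T₂ : TrFam.{u}} (h3 : Var3 T) (h3' : Var3 T₂) {X Y S : Scheme.{u}} (h : X ⟶ Y)
    (g : Y ⟶ S) [IsFinite h] [Flat h] [LocallyOfFinitePresentation h]
    [IsFinite g] [Flat g] [LocallyOfFinitePresentation g]
    [IsFinite (h ≫ g)] [Flat (h ≫ g)] [LocallyOfFinitePresentation (h ≫ g)] (F : EtCoh.Ab S)
    {Ω : Type u} [Field Ω] [IsAlgClosed Ω] {η : Spec (CommRingCat.of Ω) ⟶ S}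
    (hh : tr T h ((EtCoh.pull g).obj F) = tr T₂ h ((EtCoh.pull g).obj F))
    (hg : ∀ b, (EtCoh.stalk η).map (tr T g F) b = (EtCoh.stalk η).map (tr T₂ g F) b)
    (a : (EtCoh.stalk η).obj (PP (h ≫ g) F)) :
    (EtCoh.stalk η).map (tr T (h ≫ g) F) a = (EtCoh.stalk η).map (tr T₂ (h ≫ g) F) a := by
  rw [tr_var3 h3, tr_var3 h3', hh]
  simp only [Functor.map_comp, ConcreteCategory.comp_apply]
  exact hg _

section Field

variable {Ω : Type u} [Field Ω] [IsAlgClosed Ω] {X : Scheme.{u}} (f : X ⟶ Spec (CommRingCat.of Ω))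
  [IsFinite f] [Flat f] [LocallyOfFinitePresentation f]

/-- The point of a section. -/
noncomputable abbrev ptPts (ξ : Pts f (𝟙 _)) : X := ξ.1.base default

theorem ptPts_bijective : Function.Bijective (ptPts f) := by
  have e : ptPts f = (pullback.fst f (𝟙 _)).base ∘ (qOf (f := f) (η := 𝟙 _)) := funext fun ξ =>
    (congrArg (fun k : Spec (CommRingCat.of Ω) ⟶ X => k.base default) (pullback.lift_fst ξ.1 (𝟙 _)
      (ξ.2.trans (Category.id_comp _).symm)).symm).trans (Scheme.Hom.comp_apply _ _ _)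
  rw [e]
  exact (pullback.fst f (𝟙 _)).homeomorph.bijective.comp ⟨injective_qOf, surjective_qOf⟩

theorem isOpen_ptPts (ξ : Pts f (𝟙 _)) : IsOpen ({ptPts f ξ} : Set X) := by
  haveI : Finite (Pts f (𝟙 _)) := finite_pts f _
  haveI : Finite X := Finite.of_surjective _ (ptPts_bijective f).2
  haveI : T1Space X := ⟨fun q => closure_eq_iff_isClosed.1 (Set.Subset.antisymm (fun r hr =>
    eq_of_specializes_of_isIntegralHom f (Subsingleton.elim (α := (Spec (CommRingCat.of Ω))) _ _)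
      (specializes_iff_mem_closure.2 hr)) subset_closure)⟩
  exact isOpen_discrete _

/-- The piece at a section. -/
noncomputable abbrev piece (ξ : Pts f (𝟙 _)) : X.Opens := ⟨{ptPts f ξ}, isOpen_ptPts f ξ⟩

theorem iSup_piece : iSup (piece f) = ⊤ := top_le_iff.1 fun x _ => by
  obtain ⟨ξ, rfl⟩ := (ptPts_bijective f).2 x
  exact TopologicalSpace.Opens.mem_iSup.2 ⟨ξ, rfl⟩

theorem disjoint_piece : Pairwise (Function.onFun Disjoint fun ξ => (piece f ξ).ι.opensRange) := by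
  intro ξ ξ' hne
  simp only [Function.onFun, Scheme.Opens.opensRange_ι]
  refine disjoint_iff.2 (TopologicalSpace.Opens.ext (Set.eq_empty_iff_forall_notMem.2 fun x hx => hne ?_))
  exact (ptPts_bijective f).1 ((hx.1 : x = _).symm.trans (hx.2 : x = _))

theorem exists_split :
    ∃ h : X ⟶ splitScheme Ω (Pts f (𝟙 _)), h ≫ fold Ω (Pts f (𝟙 _)) = f ∧ Flat h ∧
      LocallyOfFinitePresentation h ∧ ∀ ξ : Pts f (𝟙 _), ξ.1 ≫ h = delta Ω (Pts f (𝟙 _)) ξ := by
  haveI : Finite (Pts f (𝟙 _)) := finite_pts f _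
  obtain ⟨hcol⟩ := nonempty_isColimit_cofanMk_of (fun ξ => (piece f ξ).ι)
    (by simpa only [Scheme.Opens.opensRange_ι] using iSup_piece f) (disjoint_piece f)
  let h : X ⟶ splitScheme Ω (Pts f (𝟙 _)) :=
    Cofan.IsColimit.desc hcol fun ξ => ((piece f ξ).ι ≫ f) ≫ delta Ω (Pts f (𝟙 _)) ξ
  have hh : ∀ ξ, (piece f ξ).ι ≫ h = ((piece f ξ).ι ≫ f) ≫ delta Ω (Pts f (𝟙 _)) ξ := fun ξ =>
    Cofan.IsColimit.fac hcol _ ξ
  refine ⟨h, Cofan.IsColimit.hom_ext hcol _ _ fun ξ => ?_, ?_, ?_, fun ξ => ?_⟩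
  · show (piece f ξ).ι ≫ h ≫ _ = (piece f ξ).ι ≫ f
    rw [← Category.assoc, hh, Category.assoc, delta_fold, Category.comp_id]
  · refine IsZariskiLocalAtSource.of_iSup_eq_top (P := @Flat) _ (iSup_piece f) fun ξ => ?_
    rw [hh]; infer_instance
  · refine IsZariskiLocalAtSource.of_iSup_eq_top (P := @LocallyOfFinitePresentation) _ (iSup_piece f) fun ξ => ?_
    rw [hh]; infer_instance
  · have hr : Set.range ξ.1.base ⊆ Set.range (piece f ξ).ι.base := by
      rw [Scheme.Opens.range_ι]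
      rintro _ ⟨a, rfl⟩
      exact (congrArg ξ.1.base (Subsingleton.elim a default) :)
    rw [← IsOpenImmersion.lift_fac (piece f ξ).ι ξ.1 hr, Category.assoc, hh, ← Category.assoc,
      ← Category.assoc, IsOpenImmersion.lift_fac, ξ.2, Category.id_comp]

theorem eq_comp_of_pt {K : Type u} [Field K] (ξ : Pts f (𝟙 _)) (y : Spec (CommRingCat.of K) ⟶ X)
    (hy : y.base default = ptPts f ξ) : y = (y ≫ f) ≫ ξ.1 := by
  haveI : IsClosedImmersion ξ.1 := isClosedImmersion_of_comp_eq_id f ξ.1 ξ.2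
  haveI : Surjective (pullback.fst y ξ.1) := ⟨fun a => by
    obtain ⟨q, hq, -⟩ := Scheme.Pullback.exists_preimage_pullback (f := y) (g := ξ.1) a default
      ((congrArg y.base (Subsingleton.elim a default)).trans hy)
    exact ⟨q, hq⟩⟩
  haveI : IsIso (pullback.fst y ξ.1) := isIso_of_isClosedImmersion_of_surjective _
  let k := inv (pullback.fst y ξ.1) ≫ pullback.snd y ξ.1
  have hk : k ≫ ξ.1 = y := by
    rw [Category.assoc, ← pullback.condition, IsIso.inv_hom_id_assoc]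
  have : y ≫ f = k := by rw [← hk, Category.assoc, ξ.2, Category.comp_id]
  rw [this, hk]

theorem subsingleton_pts_split [Finite (Pts f (𝟙 _))] {h : X ⟶ splitScheme Ω (Pts f (𝟙 _))}
    (hf : h ≫ fold Ω (Pts f (𝟙 _)) = f) (hsec : ∀ ξ : Pts f (𝟙 _), ξ.1 ≫ h = delta Ω (Pts f (𝟙 _)) ξ)
    {K : Type u} [Field K] [IsAlgClosed K] (y : Spec (CommRingCat.of K) ⟶ splitScheme Ω (Pts f (𝟙 _))) :
    Subsingleton (Pts h y) := by
  refine ⟨fun u v => Subtype.ext ?_⟩
  have key : ∀ u : Pts h y, ∃ ξ, u.1 = (y ≫ fold Ω _) ≫ ξ.1 ∧ y = (y ≫ fold Ω _) ≫ delta Ω _ ξ := fun u => by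
    obtain ⟨ξ, hξ⟩ := (ptPts_bijective f).2 (u.1.base default)
    have hu := eq_comp_of_pt f ξ u.1 hξ.symm
    have huf : u.1 ≫ f = y ≫ fold Ω _ := by
      rw [← congrArg (· ≫ fold Ω _) u.2, Category.assoc, hf]
    rw [huf] at hu
    exact ⟨ξ, hu, u.2.symm.trans ((congrArg (· ≫ h) hu).trans
      ((Category.assoc _ _ _).trans (congrArg (_ ≫ ·) (hsec ξ))))⟩
  obtain ⟨a, ha, ha'⟩ := key u
  obtain ⟨b, hb, hb'⟩ := key v
  have e := congrArg (fun k : Spec (CommRingCat.of K) ⟶ splitScheme Ω (Pts f (𝟙 _)) => k.base default)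
    (ha'.symm.trans hb')
  simp only [Scheme.Hom.comp_apply] at e
  rw [ha, hb, delta_base_injective e]

theorem tr_eq_field {T T₂ : TrFam.{u}} (h2 : Var2 T) (h2' : Var2 T₂) (h3 : Var3 T) (h3' : Var3 T₂)
    (h4 : Var4 T) (h4' : Var4 T₂) (F : EtCoh.Ab (Spec (CommRingCat.of Ω)))
    {η : Spec (CommRingCat.of Ω) ⟶ Spec (CommRingCat.of Ω)} (hη : η = 𝟙 _)
    (a : (EtCoh.stalk η).obj (PP f F)) :
    (EtCoh.stalk η).map (tr T f F) a = (EtCoh.stalk η).map (tr T₂ f F) a := by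
  haveI : Finite (Pts f (𝟙 _)) := finite_pts f _
  obtain ⟨h, hf, hflat, hlfp, hsec⟩ := exists_split f
  haveI : IsFinite (h ≫ fold Ω (Pts f (𝟙 _))) := by rw [hf]; infer_instance
  haveI : IsFinite h := IsFinite.of_comp h (fold Ω (Pts f (𝟙 _)))
  have hh := tr_eq_of_radicial h ((EtCoh.pull (fold Ω _)).obj F) h2 h2' h4 h4'
    fun K _ _ y => subsingleton_pts_split f hf hsec y
  suffices ∀ (k : X ⟶ Spec (CommRingCat.of Ω)), k = h ≫ fold Ω _ → ∀ [IsFinite k] [Flat k]
      [LocallyOfFinitePresentation k] (a : (EtCoh.stalk η).obj (PP k F)),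
      (EtCoh.stalk η).map (tr T k F) a = (EtCoh.stalk η).map (tr T₂ k F) a from this f hf.symm a
  intro k hk
  subst hk
  intro _ _ _ a
  exact tr_comp_eq h3 h3' h (fold Ω _) F hh
    (fun b => tr_fold_eq F h2 h2' h4 h4' b (hη.trans (Category.id_comp _).symm)) a

end Field

/-- Two trace families coincide. -/
theorem tr_unique {T T₂ : TrFam.{u}} (h2 : Var2 T) (h2' : Var2 T₂) (h3 : Var3 T) (h3' : Var3 T₂)
    (h4 : Var4 T) (h4' : Var4 T₂) {X S : Scheme.{u}} (f : X ⟶ S) [IsFinite f] [Flat f]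
    [LocallyOfFinitePresentation f] (F : EtCoh.Ab S) : tr T f F = tr T₂ f F :=
  hom_ext_stalk fun _ _ _ η a => tr_eq_of_bc (IsPullback.of_hasPullback f η) F h2 h2'
    (tr_eq_field (pullback.snd f η) h2 h2' h3 h3' h4 h4' _ rfl) η (Category.id_comp η) a

end Groth.Agent.H15Site.Trace
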