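import Groth.Agent.H15Site.Trace.Compat

/-!
# Trace families: coordinates on stalks and reduction to geometric fibres
-/

set_option autoImplicit false
set_option linter.style.haveILetI false
set_option linter.unusedSectionVars false
set_option linter.overlappingInstances false
set_option backward.isDefEq.respectTransparency false
set_option backward.isDefEq.respectTransparency.types false

universe u

open CategoryTheory CategoryTheory.Limits AlgebraicGeometry Opposite
open scoped Groth.Agent.H18Et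

namespace Groth.Agent.H15Site.Trace

open Groth.Agent.H18Et

/-- Candidates for the trace. -/
abbrev TrFam : Type (u + 2) :=
  ∀ ⦃X S : Scheme.{u}⦄ (f : X ⟶ S) [IsFinite f] [Flat f] [LocallyOfFinitePresentation f],
    EtCoh.pull f ⋙ EtCoh.push f ⟶ 𝟭 (EtCoh.Ab S)

/-- Compatibility with base change. -/
structure Var2 (T : TrFam.{u}) : Prop where
  prop :
  ∀ ⦃X S X' S' : Scheme.{u}⦄ (f : X ⟶ S) (g : S' ⟶ S) (f' : X' ⟶ S') (g' : X' ⟶ X)
      (hc : IsPullback g' f' f g)
      [IsFinite f] [Flat f] [LocallyOfFinitePresentation f]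
      [IsFinite f'] [Flat f'] [LocallyOfFinitePresentation f'] (F : EtCoh.Ab S),
    EtCoh.baseChange0 f g f' g' hc.w ((EtCoh.pull f).obj F) ≫
      (EtCoh.push f').map ((EtCore.pullComp g' f).inv.app F ≫ (EtCore.pullCongr hc.w).hom.app F ≫
        (EtCore.pullComp f' g).hom.app F) ≫ (T f').app ((EtCoh.pull g).obj F) =
      (EtCoh.pull g).map ((T f).app F)

/-- Compatibility with composition. -/
structure Var3 (T : TrFam.{u}) : Prop where
  prop :
  ∀ ⦃X Y S : Scheme.{u}⦄ (h : X ⟶ Y) (g : Y ⟶ S)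
      [IsFinite h] [Flat h] [LocallyOfFinitePresentation h]
      [IsFinite g] [Flat g] [LocallyOfFinitePresentation g]
      [IsFinite (h ≫ g)] [Flat (h ≫ g)] [LocallyOfFinitePresentation (h ≫ g)] (F : EtCoh.Ab S),
    (T (h ≫ g)).app F =
      (EtCoh.push (h ≫ g)).map ((EtCore.pullComp h g).hom.app F) ≫
        (EtCoh.pushComp g h).inv.app ((EtCoh.pull h).obj ((EtCoh.pull g).obj F)) ≫
        (EtCoh.push g).map ((T h).app ((EtCoh.pull g).obj F)) ≫ (T g).app F

/-- Normalisation. -/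
structure Var4 (T : TrFam.{u}) : Prop where
  prop :
  ∀ ⦃X S : Scheme.{u}⦄ (f : X ⟶ S) [IsFinite f] [Flat f] [LocallyOfFinitePresentation f] (n : ℕ)
      (_ : ∀ s : S, f.finrank s = n) (F : EtCoh.Ab S),
    (EtCoh.pullPushAdj f).unit.app F ≫ (T f).app F = n • 𝟙 F

/-- A component of a candidate. -/
noncomputable def tr (T : TrFam.{u}) {X S : Scheme.{u}} (f : X ⟶ S) [IsFinite f] [Flat f]
    [LocallyOfFinitePresentation f] (F : EtCoh.Ab S) : PP f F ⟶ F :=
  (T f).app F

/-- The functoriality of `PP`. -/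
noncomputable def mapPP {X S : Scheme.{u}} (f : X ⟶ S) {F F' : EtCoh.Ab S} (α : F ⟶ F') :
    PP f F ⟶ PP f F' :=
  (EtCoh.push f).map ((EtCoh.pull f).map α)

theorem tr_naturality (T : TrFam.{u}) {X S : Scheme.{u}} (f : X ⟶ S) [IsFinite f] [Flat f]
    [LocallyOfFinitePresentation f] {F F' : EtCoh.Ab S} (α : F ⟶ F') :
    mapPP f α ≫ tr T f F' = tr T f F ≫ α :=
  (T f).naturality α

/-- The unit with typed target. -/
noncomputable def unitPP {X S : Scheme.{u}} (f : X ⟶ S) (F : EtCoh.Ab S) : F ⟶ PP f F :=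
  (EtCoh.pullPushAdj f).unit.app F

section Coord

variable {Ω : Type u} [Field Ω] [IsAlgClosed Ω] {X S : Scheme.{u}} (f : X ⟶ S) (F : EtCoh.Ab S)
  {η : Spec (CommRingCat.of Ω) ⟶ S} [IsFinite f]

/-- The coordinates of a stalk of `PP`. -/
noncomputable def co (ξ : Pts f η) : (EtCoh.stalk η).obj (PP f F) →+ (EtCoh.stalk η).obj F :=
  (ev f F ξ).hom.comp ((pushEval ξ).app ((EtCoh.pull f).obj F)).hom

theorem co_germ (ξ : Pts f η) (V : S.Etale) (z : (Scheme.pointSmallEtale η).fiber.obj V)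
    (t : EtCoh.sect (PP f F) V) :
    co f F ξ (germ η (PP f F) V z t) = ev f F ξ (germ ξ.1 ((EtCoh.pull f).obj F) _ (bcPt ξ V z) t) :=
  congrArg (ev f F ξ) (pushEval_germ ξ ((EtCoh.pull f).obj F) V z t)

theorem co_unit (ξ : Pts f η) (b : (EtCoh.stalk η).obj F) :
    co f F ξ ((EtCoh.stalk η).map (unitPP f F) b) = b := by
  obtain ⟨V, z, s, rfl⟩ := germ_surjective η F b
  refine (congrArg (co f F ξ) (germ_naturality η (unitPP f F) V z s)).trans ?_
  exact (co_germ f F ξ V z _).trans (ev_germ f F ξ V z s)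

theorem co_naturality {F' : EtCoh.Ab S} (α : F ⟶ F') (ξ : Pts f η) (a : (EtCoh.stalk η).obj (PP f F)) :
    co f F' ξ ((EtCoh.stalk η).map (mapPP f α) a) = (EtCoh.stalk η).map α (co f F ξ a) := by
  obtain ⟨V, z, t, rfl⟩ := germ_surjective η (PP f F) a
  refine (congrArg (co f F' ξ) (germ_naturality η (mapPP f α) V z t)).trans ?_
  refine (co_germ f F' ξ V z _).trans ?_
  refine Eq.trans ?_ (congrArg ((EtCoh.stalk η).map α) (co_germ f F ξ V z t)).symm
  refine Eq.trans ?_ (ev_naturality f α ξ _)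
  exact congrArg (ev f F' ξ) (germ_naturality ξ.1 ((EtCoh.pull f).map α) _ _ t).symm

theorem pushEval_natural {G G' : EtCoh.Ab X} (α : G ⟶ G') (ξ : Pts f η)
    (a : (EtCoh.stalk η).obj ((EtCoh.push f).obj G)) :
    (pushEval ξ).app G' ((EtCoh.stalk η).map ((EtCoh.push f).map α) a) =
      (EtCoh.stalk ξ.1).map α ((pushEval ξ).app G a) :=
  ConcreteCategory.congr_hom ((pushEval ξ).naturality α) a

theorem co_injective (a a' : (EtCoh.stalk η).obj (PP f F)) (h : ∀ ξ : Pts f η, co f F ξ a = co f F ξ a') :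
    a = a' :=
  pushEval_jointly_injective ((EtCoh.pull f).obj F) a a' fun ξ => (ev_bijective f F ξ).1 (h ξ)

theorem exists_co (c : Pts f η → (EtCoh.stalk η).obj F) :
    ∃ a, ∀ ξ, co f F ξ a = c ξ := by
  haveI : Finite (Pts f η) := finite_pts f η
  choose t ht using fun ξ => (ev_bijective f F ξ).2 (c ξ)
  obtain ⟨a, ha⟩ := exists_pushEval_eq_of_finite ((EtCoh.pull f).obj F) t
  exact ⟨a, fun ξ => (congrArg (ev f F ξ) (ha ξ)).trans (ht ξ)⟩

end Coord

section BaseChange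

variable {X S X' S' : Scheme.{u}} {f : X ⟶ S} {g : S' ⟶ S} {f' : X' ⟶ S'} {g' : X' ⟶ X}
  (hc : IsPullback g' f' f g) (F : EtCoh.Ab S)

variable [IsFinite f] [Flat f] [LocallyOfFinitePresentation f]
  [IsFinite f'] [Flat f'] [LocallyOfFinitePresentation f']

theorem bcMap_tr {T : TrFam.{u}} (h2 : Var2 T) :
    (EtCoh.baseChange0 f g f' g' hc.w ((EtCoh.pull f).obj F) ≫ (EtCoh.push f').map ((EtCore.pullComp g' f).inv.app F ≫ (EtCore.pullCongr hc.w).hom.app F ≫ (EtCore.pullComp f' g).hom.app F)) ≫ tr T f' ((EtCoh.pull g).obj F) = (EtCoh.pull g).map (tr T f F) :=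
  (Category.assoc _ _ _).trans (h2.prop f g f' g' hc F)

variable {Ω : Type u} [Field Ω] [IsAlgClosed Ω] {η' : Spec (CommRingCat.of Ω) ⟶ S'}

theorem tr_bc {T : TrFam.{u}} (h2 : Var2 T) (a : (EtCoh.stalk (η' ≫ g)).obj (PP f F)) :
    (EtCoh.stalk η').map (tr T f' ((EtCoh.pull g).obj F))
        ((EtCoh.stalk η').map (EtCoh.baseChange0 f g f' g' hc.w ((EtCoh.pull f).obj F) ≫ (EtCoh.push f').map ((EtCore.pullComp g' f).inv.app F ≫ (EtCore.pullCongr hc.w).hom.app F ≫ (EtCore.pullComp f' g).hom.app F)) ((stalkPullIso g η').inv.app (PP f F) a)) =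
      (stalkPullIso g η').inv.app F ((EtCoh.stalk (η' ≫ g)).map (tr T f F) a) := by
  refine (ConcreteCategory.congr_hom ((EtCoh.stalk η').map_comp (EtCoh.baseChange0 f g f' g' hc.w ((EtCoh.pull f).obj F) ≫ (EtCoh.push f').map ((EtCore.pullComp g' f).inv.app F ≫ (EtCore.pullCongr hc.w).hom.app F ≫ (EtCore.pullComp f' g).hom.app F)) _) _).symm.trans ?_
  refine (congrArg (fun k => (EtCoh.stalk η').map k _) (bcMap_tr hc F h2)).trans ?_
  exact (ConcreteCategory.congr_hom ((stalkPullIso g η').inv.naturality (tr T f F)) a).symm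

theorem co_bc (ξ' : Pts f' η') (a : (EtCoh.stalk (η' ≫ g)).obj (PP f F)) :
    co f' ((EtCoh.pull g).obj F) ξ'
        ((EtCoh.stalk η').map (EtCoh.baseChange0 f g f' g' hc.w ((EtCoh.pull f).obj F) ≫ (EtCoh.push f').map ((EtCore.pullComp g' f).inv.app F ≫ (EtCore.pullCongr hc.w).hom.app F ≫ (EtCore.pullComp f' g).hom.app F)) ((stalkPullIso g η').inv.app (PP f F) a)) =
      (stalkPullIso g η').inv.app F (co f F (mapPts hc.w ξ') a) := by
  refine Eq.trans ?_ (ev_kap hc F ξ' ((pushEval (mapPts hc.w ξ')).app ((EtCoh.pull f).obj F) a))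
  refine congrArg (ev f' ((EtCoh.pull g).obj F) ξ') ?_
  refine (congrArg ((pushEval ξ').app ((EtCoh.pull f').obj ((EtCoh.pull g).obj F)))
    (ConcreteCategory.congr_hom ((EtCoh.stalk η').map_comp _ _) _)).trans ?_
  refine (pushEval_natural f' (G := (EtCoh.pull g').obj ((EtCoh.pull f).obj F))
    (G' := (EtCoh.pull f').obj ((EtCoh.pull g).obj F))
    ((EtCore.pullComp g' f).inv.app F ≫ (EtCore.pullCongr hc.w).hom.app F ≫ (EtCore.pullComp f' g).hom.app F) ξ' _).trans ?_
  exact congrArg _ (pushEval_baseChange0 hc.w ((EtCoh.pull f).obj F) ξ' a)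

include hc in
theorem tr_eq_of_bc {T T₂ : TrFam.{u}} (h2 : Var2 T) (h2' : Var2 T₂)
    (h : ∀ b, (EtCoh.stalk η').map (tr T f' ((EtCoh.pull g).obj F)) b =
      (EtCoh.stalk η').map (tr T₂ f' ((EtCoh.pull g).obj F)) b)
    (η : Spec (CommRingCat.of Ω) ⟶ S) (e : η' ≫ g = η) (a : (EtCoh.stalk η).obj (PP f F)) :
    (EtCoh.stalk η).map (tr T f F) a = (EtCoh.stalk η).map (tr T₂ f F) a := by
  subst e
  exact (ConcreteCategory.bijective_of_isIso ((stalkPullIso g η').inv.app F)).1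
    (((tr_bc hc F h2 a).symm.trans (h _)).trans (tr_bc hc F h2' a))

theorem tr_eq_of_two_squares {T : TrFam.{u}} (h2 : Var2 T) {g'' : X' ⟶ X} (hd : IsPullback g'' f' f g)
    (a₁ a₂ : (EtCoh.stalk (η' ≫ g)).obj (PP f F))
    (h : ∀ ξ' : Pts f' η', co f F (mapPts hc.w ξ') a₁ = co f F (mapPts hd.w ξ') a₂) :
    (EtCoh.stalk (η' ≫ g)).map (tr T f F) a₁ = (EtCoh.stalk (η' ≫ g)).map (tr T f F) a₂ := by
  apply (ConcreteCategory.bijective_of_isIso ((stalkPullIso g η').inv.app F)).1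
  refine (tr_bc hc F h2 a₁).symm.trans (Eq.trans ?_ (tr_bc hd F h2 a₂))
  refine congrArg _ (co_injective f' _ _ _ fun ξ' => ?_)
  exact (co_bc hc F ξ' a₁).trans ((congrArg _ (h ξ')).trans (co_bc hd F ξ' a₂).symm)

end BaseChange

section OnePoint

variable {Ω : Type u} [Field Ω] [IsAlgClosed Ω] {X S : Scheme.{u}} (f : X ⟶ S) (F : EtCoh.Ab S)
  [IsFinite f] [Flat f] [LocallyOfFinitePresentation f]

theorem tr_unit {T : TrFam.{u}} (h4 : Var4 T) {n : ℕ} (hn : ∀ s : S, f.finrank s = n)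
    {η : Spec (CommRingCat.of Ω) ⟶ S} (b : (EtCoh.stalk η).obj F) :
    (EtCoh.stalk η).map (tr T f F) ((EtCoh.stalk η).map (unitPP f F) b) =
      (EtCoh.stalk η).map (n • 𝟙 F) b := by
  refine (ConcreteCategory.congr_hom ((EtCoh.stalk η).map_comp (unitPP f F) _) _).symm.trans ?_
  exact congrArg (fun k => (EtCoh.stalk η).map k b) (h4.prop f n hn F)

theorem tr_eq_of_subsingleton_pts {T T₂ : TrFam.{u}} (h4 : Var4 T) (h4' : Var4 T₂) {n : ℕ}
    (hn : ∀ s : S, f.finrank s = n) {η : Spec (CommRingCat.of Ω) ⟶ S} [Subsingleton (Pts f η)]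
    (a : (EtCoh.stalk η).obj (PP f F)) :
    (EtCoh.stalk η).map (tr T f F) a = (EtCoh.stalk η).map (tr T₂ f F) a := by
  obtain ⟨b, rfl⟩ : ∃ b, (EtCoh.stalk η).map (unitPP f F) b = a := by
    rcases isEmpty_or_nonempty (Pts f η) with h | ⟨⟨ξ⟩⟩
    · exact ⟨0, co_injective f F _ _ fun ξ => h.elim ξ⟩
    · exact ⟨co f F ξ a, co_injective f F _ _ fun ξ' => by
        rw [Subsingleton.elim ξ' ξ, co_unit]⟩
  exact (tr_unit f F h4 hn b).trans (tr_unit f F h4' hn b).symm

/-- Candidates agree on morphisms whose geometric fibres have at most one point. -/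
theorem tr_eq_of_radicial {T T₂ : TrFam.{u}} (h2 : Var2 T) (h2' : Var2 T₂) (h4 : Var4 T) (h4' : Var4 T₂)
    (h : ∀ (Ω : Type u) [Field Ω] [IsAlgClosed Ω] (η : Spec (CommRingCat.of Ω) ⟶ S),
      Subsingleton (Pts f η)) :
    tr T f F = tr T₂ f F := by
  refine hom_ext_stalk fun Ω _ _ η a => ?_
  haveI : Subsingleton (Pts (pullback.snd f η) (𝟙 _)) := by
    haveI := h Ω (𝟙 _ ≫ η)
    exact (mapPts_bijective (IsPullback.of_hasPullback f η)).1.subsingleton
  exact tr_eq_of_bc (IsPullback.of_hasPullback f η) F h2 h2'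
    (tr_eq_of_subsingleton_pts (pullback.snd f η) _ h4 h4'
      (n := (pullback.snd f η).finrank default) fun s => by rw [Subsingleton.elim s default])
    η (Category.id_comp η) a

end OnePoint

end Groth.Agent.H15Site.Trace
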