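import Groth.Agent.H15Site.Trace.Main

/-!
# Multiplicities under composition and base change
-/

set_option autoImplicit false
set_option linter.style.haveILetI false
set_option linter.unusedSectionVars false
set_option linter.overlappingInstances false
set_option backward.isDefEq.respectTransparency false
set_option backward.isDefEq.respectTransparency.types false

universe u

open CategoryTheory CategoryTheory.Limits AlgebraicGeometry Opposite
open scoped Groth.Agent.H18Et

namespace Groth.Agent.H15Site.Trace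

open Groth.Agent.H18Et Groth.Agent.H7Weight.FlatLQF Groth.Agent.H7Weight.LocalMult IsLocalRing

theorem len_comp_of_flat {A B C : Type u} [CommRing A] [CommRing B] [CommRing C] [IsLocalRing A]
    [IsLocalRing B] [IsLocalRing C] (φ : A →+* B) (β : B →+* C) [IsLocalHom β] (hβ : β.Flat) :
    len (β.comp φ) = len φ * len β := by
  algebraize [β]
  haveI : IsLocalHom (algebraMap B C) := ‹IsLocalHom β›
  unfold len
  set I := (maximalIdeal A).map φ
  have hI : (maximalIdeal A).map (β.comp φ) = I.map (algebraMap B C) := (Ideal.map_map φ β).symm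
  rw [hI, (Algebra.TensorProduct.quotIdealMapEquivTensorQuot C I).toLinearEquiv.length_eq,
    IsLocalRing.length_baseChange B C, ENat.toNat_mul]
  rfl

/-- The multiplicities multiply in a composite. -/
theorem wt_mul {X Y Z : Scheme.{u}} (h : X ⟶ Y) (g : Y ⟶ Z) [Flat h] [LocallyQuasiFinite g]
    [LocallyOfFiniteType g] (x : X) : wt (h ≫ g) x = wt h x * wt g (h x) := by
  simp only [wt, LW, Scheme.Hom.stalkMap_comp, ← Nat.cast_mul]
  congr 1
  change mult ((h.stalkMap x).hom.comp (g.stalkMap (h x)).hom) = _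
  unfold mult
  rw [len_comp_of_flat _ _ (Flat.stalkMap h x), insep_comp _ _ (isAlgebraic_residue g (h x))]
  ring

variable {X Y : Scheme.{u}} (f : X ⟶ Y) [IsFinite f] [Flat f] [LocallyOfFinitePresentation f]
  {Ω : Type u} [Field Ω] [IsAlgClosed Ω] {η : Spec (CommRingCat.of Ω) ⟶ Y}

/-- The multiplicity of a lift is its multiplicity in the geometric fibre. -/
theorem wt_eq_fibre (ξ : Pts f η) : wt f (H7Weight.pt ξ.1) = wt (pullback.snd f η) (qOf ξ) := by
  classical
  haveI : Finite (Pts f η) := finite_pts f η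
  let V₀ : Y.Etale := EtCoh.top Y
  let z₀ : (Scheme.pointSmallEtale η).fiber.obj V₀ := Over.homMk η (Category.comp_id _)
  obtain ⟨V, g, z, D, -, hD, hcl, hdis⟩ := exists_decomp f η V₀ z₀
  haveI : IsFinite ((D ξ).ι ≫ pullback.fst V.hom f) := isFinite_piece (D ξ) (hcl ξ)
  letI : Unique {ξ' : Pts f η // ptOf (bcPt ξ' V z) ∈ D ξ} :=
    { default := ⟨ξ, hD ξ⟩, uniq := fun a => Subtype.ext (hdis a.1 ξ _ (hD a.1) a.2) }
  have h1 := sum_piece (f := f) z (D ξ)
  rw [Fintype.sum_unique] at h1
  refine (show wt f (H7Weight.pt ξ.1) = _ from h1).trans ?_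
  let O : (pullback f η).Opens := ιFib (f := f) V z ⁻¹ᵁ D ξ
  let b := O.ι ≫ pullback.snd f η
  have sq : IsPullback (ιFib (f := f) V z ∣_ D ξ) b ((D ξ).ι ≫ pullback.fst V.hom f)
      (show Spec (CommRingCat.of Ω) ⟶ V.left from z.left) :=
    (isPullback_morphismRestrict (ιFib (f := f) V z) (D ξ)).paste_vert (isPullback_ιFib V z)
  haveI : IsFinite b := MorphismProperty.of_isPullback sq inferInstance
  haveI : Flat b := MorphismProperty.of_isPullback sq inferInstance
  haveI : LocallyOfFinitePresentation b := MorphismProperty.of_isPullback sq inferInstance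
  have hsec : ∀ ζ : Pts f η, pullback.lift ζ.1 (𝟙 _) (ζ.2.trans (Category.id_comp _).symm) ≫
      pullback.snd f η = 𝟙 (Spec (CommRingCat.of Ω)) := fun ζ => pullback.lift_snd _ _ _
  have hmem : ∀ ζ : Pts f η, qOf ζ ∈ O ↔ ptOf (bcPt ζ V z) ∈ D ξ := fun ζ => by
    rw [ptOf_bcPt]; rfl
  let s : H7Weight.Pts b (𝟙 _) := ⟨IsOpenImmersion.lift O.ι (secPt ξ) (by
      rintro _ ⟨a, rfl⟩
      rw [Scheme.Opens.range_ι, Subsingleton.elim a default]
      exact (hmem ξ).2 (hD ξ)),
    (Category.assoc _ _ _).symm.trans ((congrArg (· ≫ pullback.snd f η)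
      (IsOpenImmersion.lift_fac _ _ _)).trans (hsec ξ))⟩
  letI : Unique (H7Weight.Pts b (𝟙 _)) :=
    { default := s
      uniq := fun t => by
        have ht : (t.1 ≫ O.ι) ≫ pullback.fst f η ≫ f = η := by
          rw [pullback.condition]
          refine (Category.assoc _ _ _).symm.trans ?_
          rw [Category.assoc t.1, t.2, Category.id_comp]
        let ζ : Pts f η := ⟨(t.1 ≫ O.ι) ≫ pullback.fst f η, (Category.assoc _ _ _).trans ht⟩
        have hζ : secPt ζ = t.1 ≫ O.ι := pullback.hom_ext (pullback.lift_fst _ _ _)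
          ((hsec ζ).trans (((Category.assoc _ _ _).trans t.2).symm))
        have hζ' : qOf ζ ∈ O := by
          show (secPt ζ).base default ∈ O
          rw [hζ]
          exact (t.1 default).2
        have e : ζ = ξ := hdis ζ ξ _ (hD ζ) ((hmem ζ).1 hζ')
        refine Subtype.ext ((cancel_mono O.ι).1 ?_)
        rw [← hζ, e]
        exact (IsOpenImmersion.lift_fac _ _ _).symm }
  have h2 : ((D ξ).ι ≫ pullback.fst V.hom f).finrank (ptOf z) = b.finrank (IsLocalRing.closedPoint Ω) := by
    rw [Scheme.Hom.finrank_of_isPullback _ _ _ _ sq, ptOf_eq_pt]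
    rfl
  rw [h2, ← congrArg (fun y => ((b.finrank y : ℕ) : ℤ)) (show H7Weight.pt (𝟙 (Spec (CommRingCat.of Ω))) =
    IsLocalRing.closedPoint Ω from rfl), ← sum_wt b (𝟙 _), Fintype.sum_unique,
    wt_comp b O.ι (pullback.snd f η) (𝟙 _) (Category.comp_id _)]
  refine congrArg (wt (pullback.snd f η)) ?_
  rw [← H7Weight.pt_comp]
  refine (congrArg (fun k => H7Weight.pt k) (IsOpenImmersion.lift_fac O.ι (secPt ξ) _)).trans ?_
  exact congrArg (secPt ξ).base (Subsingleton.elim (α := ↥(Spec (CommRingCat.of Ω))) _ _)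

/-- The multiplicities are invariant under base change. -/
theorem wt_baseChange {X' Y' : Scheme.{u}} {g : Y' ⟶ Y} {f' : X' ⟶ Y'} {g' : X' ⟶ X}
    (h : IsPullback g' f' f g) [IsFinite f'] [Flat f'] [LocallyOfFinitePresentation f']
    {η' : Spec (CommRingCat.of Ω) ⟶ Y'} (ξ' : Pts f' η') :
    wt f' (H7Weight.pt ξ'.1) = wt f (H7Weight.pt (mapPts h.w ξ').1) := by
  rw [wt_eq_fibre f', wt_eq_fibre f]
  have sq : IsPullback (pullback.fst f' η' ≫ g') (pullback.snd f' η') f (η' ≫ g) :=
    (IsPullback.of_hasPullback f' η').paste_horiz h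
  rw [wt_comp (pullback.snd f' η') sq.isoPullback.hom (pullback.snd f (η' ≫ g)) (𝟙 _)
    (by rw [Category.comp_id, sq.isoPullback_hom_snd])]
  refine congrArg (wt (pullback.snd f (η' ≫ g))) ?_
  show sq.isoPullback.hom.base ((secPt ξ').base default) = (secPt (mapPts h.w ξ')).base default
  rw [← Scheme.Hom.comp_apply]
  refine congrArg (fun k : Spec (CommRingCat.of Ω) ⟶ pullback f (η' ≫ g) => k.base default) (pullback.hom_ext ?_ ?_)
  · rw [Category.assoc, sq.isoPullback_hom_fst, pullback.lift_fst]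
    exact (Category.assoc _ _ _).symm.trans (congrArg (· ≫ g') (pullback.lift_fst _ _ _))
  · rw [Category.assoc, sq.isoPullback_hom_snd]
    exact (pullback.lift_snd _ _ _).trans (pullback.lift_snd _ _ _).symm

end Groth.Agent.H15Site.Trace
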